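import Mathlib

/-!
# Inner automorphisms centralised by a given automorphism
-/

set_option autoImplicit false
set_option linter.style.haveILetI false
set_option linter.unusedSectionVars false

namespace Cfsg.Agent.Intrinsic63

open Subgroup

variable {X : Type*} [Group X] [Finite X]

/-- The fixed points of an automorphism. -/
abbrev fixedBy' (t : MulAut X) : Subgroup X := t.toMonoidHom.eqLocus (MonoidHom.id X)

/-- The inner automorphisms centralised by `t`. -/
abbrev innCen (t : MulAut X) : Subgroup (MulAut X) :=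
  (MulAut.conj : X →* MulAut X).range ⊓ Subgroup.centralizer {t}

theorem mem_innCen_iff {t : MulAut X} {x : X} :
    MulAut.conj x ∈ innCen t ↔ (t x) * x⁻¹ ∈ center X := by
  rw [Subgroup.mem_inf, Subgroup.mem_centralizer_singleton_iff]
  constructor
  · rintro ⟨-, h⟩
    rw [Subgroup.mem_center_iff]
    intro w
    obtain ⟨y, hy⟩ := t.surjective (x⁻¹ * w * x)
    have h1 := DFunLike.congr_fun h y
    simp only [MulAut.mul_apply, MulAut.conj_apply] at h1
    rw [map_mul, map_mul, map_inv, hy] at h1
    calc w * (t x * x⁻¹) = (x * (x⁻¹ * w * x) * x⁻¹) * (t x * x⁻¹) := by group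
      _ = t x * x⁻¹ * w := by rw [h1]; group
  · intro h
    refine ⟨⟨x, rfl⟩, ?_⟩
    ext y
    simp only [MulAut.mul_apply, MulAut.conj_apply, map_mul, map_inv]
    have h1 := Subgroup.mem_center_iff.mp h (x * t y * x⁻¹)
    calc x * t y * x⁻¹ = (t x * x⁻¹) * (x * t y * x⁻¹) * (t x * x⁻¹)⁻¹ := by
          rw [← h1]; group
      _ = t x * t y * (t x)⁻¹ := by group

/-- The number of inner automorphisms centralised by `t` divides the number of fixed points. -/
theorem card_innCen_dvd (t : MulAut X) : Nat.card (innCen t) ∣ Nat.card (fixedBy' t) := by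
  set H := (innCen t).comap MulAut.conj with hH
  have hmem : ∀ x, x ∈ H ↔ t x * x⁻¹ ∈ center X := fun x => mem_innCen_iff
  let e : H →* center X := MonoidHom.mk' (fun x => ⟨t x * (x : X)⁻¹, (hmem x).mp x.2⟩) (fun x y =>
    Subtype.ext (by
      have h1 := Subgroup.mem_center_iff.mp ((hmem y).mp y.2) ((x : X)⁻¹)
      show t ((x : X) * y) * ((x : X) * y)⁻¹ = t x * (x : X)⁻¹ * (t y * (y : X)⁻¹)
      rw [map_mul, mul_inv_rev, mul_assoc (t x) (x : X)⁻¹, h1]
      group))
  have hker : Nat.card e.ker = Nat.card (fixedBy' t) := by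
    rw [Nat.card_congr (e.ker.equivMapOfInjective H.subtype H.subtype_injective).toEquiv]
    congr 2
    ext x
    constructor
    · rintro ⟨y, hy, rfl⟩
      exact mul_inv_eq_one.mp (congrArg Subtype.val hy : t y * (y : X)⁻¹ = 1)
    · intro hx
      change t x = x at hx
      exact ⟨⟨x, (hmem x).mpr (by rw [hx, mul_inv_cancel]; exact one_mem _)⟩,
        Subtype.ext (show t x * x⁻¹ = 1 by rw [hx, mul_inv_cancel]), rfl⟩
  let f : H →* MulAut X := MulAut.conj.comp H.subtype
  have hfr : f.range = innCen t := by
    rw [MonoidHom.range_comp, Subgroup.range_subtype, hH, Subgroup.map_comap_eq,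
      inf_eq_right.mpr inf_le_left]
  have hfk : Nat.card f.ker = Nat.card (center X) := by
    rw [Nat.card_congr (f.ker.equivMapOfInjective H.subtype H.subtype_injective).toEquiv]
    congr 2
    ext x
    constructor
    · rintro ⟨y, hy, rfl⟩
      rw [Subgroup.mem_center_iff]
      intro w
      have h1 := DFunLike.congr_fun (hy : MulAut.conj (y : X) = 1) w
      simp only [MulAut.one_apply] at h1
      exact (mul_inv_eq_iff_eq_mul.mp h1).symm
    · intro hx
      have h1 : MulAut.conj x = 1 := by
        ext w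
        simp [← Subgroup.mem_center_iff.mp hx w]
      exact ⟨⟨x, by rw [hH, Subgroup.mem_comap, h1]; exact one_mem _⟩, h1, rfl⟩
  have h1 := Subgroup.card_mul_index e.ker
  have h2 := Subgroup.card_mul_index f.ker
  rw [Subgroup.index_ker, hker] at h1
  rw [Subgroup.index_ker, hfr, hfk] at h2
  obtain ⟨c, hc⟩ := Subgroup.card_subgroup_dvd_card e.range
  rw [hc] at h2
  refine ⟨c, ?_⟩
  have hpos : 0 < Nat.card e.range := Nat.card_pos
  have : Nat.card e.range * (c * Nat.card (innCen t)) =
      Nat.card e.range * Nat.card (fixedBy' t) := by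
    rw [← mul_assoc, h2, ← h1]; ring
  rw [← Nat.eq_of_mul_eq_mul_left hpos this]; ring

/-- A nontrivial automorphism of a perfect group does not centralise every inner automorphism. -/
theorem card_innCen_lt (hX : commutator X = ⊤) {t : MulAut X} (ht : t ≠ 1) :
    Nat.card (innCen t) < Nat.card (MulAut.conj : X →* MulAut X).range := by
  refine lt_of_le_of_ne (Subgroup.card_le_of_le inf_le_left) fun he => ht ?_
  have heq := Subgroup.eq_of_le_of_card_ge (inf_le_left : innCen t ≤ _) he.ge
  have hall : ∀ x, t x * x⁻¹ ∈ center X := fun x => mem_innCen_iff.mp (heq.ge ⟨x, rfl⟩)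
  let e : X →* center X := MonoidHom.mk' (fun x => ⟨t x * x⁻¹, hall x⟩) (fun x y =>
    Subtype.ext (by
      have h1 := Subgroup.mem_center_iff.mp (hall y) x⁻¹
      show t (x * y) * (x * y)⁻¹ = t x * x⁻¹ * (t y * y⁻¹)
      rw [map_mul, mul_inv_rev, mul_assoc (t x) x⁻¹, h1]
      group))
  ext x
  have hx : x ∈ e.ker := by
    have h1 : commutator X ≤ e.ker := by
      rw [_root_.commutator_def, Subgroup.commutator_le]
      intro a _ b _
      rw [MonoidHom.mem_ker, map_commutatorElement, commutatorElement_eq_one_iff_commute]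
      exact Subtype.ext (Subgroup.mem_center_iff.mp (e b).2 _)
    exact h1 (hX.ge (Subgroup.mem_top x))
  exact mul_inv_eq_one.mp (congrArg Subtype.val hx : t x * x⁻¹ = 1)

end Cfsg.Agent.Intrinsic63
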