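import Cfsg.Agent.Intrinsic63.Comp
import Cfsg.Agent.Intrinsic63.Fix

/-!
# The action on a component modulo the core of the centraliser
-/

set_option autoImplicit false
set_option linter.style.haveILetI false
set_option linter.unusedSectionVars false

namespace Cfsg.Agent.Intrinsic63

open Subgroup
open Cfsg.Agent.Components
open scoped commutatorElement

universe u

variable {G : Type u} [Group G] [Finite G]

/-- The reduction map of `C(z)`. -/
abbrev bar (z : G) : ↥(cen z) →* ↥(cen z) ⧸ Cfsg.pPrimeCore 2 ↥(cen z) :=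
  QuotientGroup.mk' (Cfsg.pPrimeCore 2 ↥(cen z))

/-- The image of `K` in the reduced centraliser. -/
abbrev Lb (z : G) (K : Subgroup G) : Subgroup (↥(cen z) ⧸ Cfsg.pPrimeCore 2 ↥(cen z)) :=
  (K.subgroupOf (cen z)).map (bar z)

/-- The part of `C(z)` normalising `K`. -/
abbrev NK (z : G) (K : Subgroup G) : Subgroup G := cen z ⊓ Subgroup.normalizer (K : Set G)

/-- The image of `K` as a map from `K`. -/
def toL {z : G} {K : Subgroup G} (h : IComp z K) : ↥K →* ↥(Lb z K) :=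
  ((bar z).comp (Subgroup.inclusion h.le)).codRestrict (Lb z K) fun x =>
    ⟨⟨x, h.le x.2⟩, x.2, rfl⟩

theorem bar_mem_normalizer (z : G) (K : Subgroup G) (g : ↥(NK z K)) :
    bar z ⟨g, g.2.1⟩ ∈ Subgroup.normalizer (Lb z K : Set (↥(cen z) ⧸ Cfsg.pPrimeCore 2 ↥(cen z))) := by
  refine Subgroup.le_normalizer_map (bar z) (Subgroup.mem_map_of_mem _ ?_)
  rw [Subgroup.mem_normalizer_iff]
  intro x
  rw [Subgroup.mem_subgroupOf, Subgroup.mem_subgroupOf]
  exact Subgroup.mem_normalizer_iff.mp g.2.2 x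

/-- The action of `N(K) ∩ C(z)` on the image of `K`. -/
def act (z : G) (K : Subgroup G) : ↥(NK z K) →* MulAut ↥(Lb z K) :=
  (Lb z K).normalizerMonoidHom.comp
    (((bar z).comp (Subgroup.inclusion inf_le_left)).codRestrict _ (bar_mem_normalizer z K))

theorem act_apply (z : G) (K : Subgroup G) (g : ↥(NK z K)) (l : ↥(Lb z K)) :
    ((act z K g l : ↥(Lb z K)) : ↥(cen z) ⧸ Cfsg.pPrimeCore 2 ↥(cen z)) =
      bar z ⟨g, g.2.1⟩ * l * (bar z ⟨g, g.2.1⟩)⁻¹ := rfl

namespace IComp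

variable {z : G} {K : Subgroup G} (h : IComp z K)
include h

theorem toL_surjective : Function.Surjective (toL h) := by
  rintro ⟨_, x, hx, rfl⟩
  exact ⟨⟨x, hx⟩, Subtype.ext rfl⟩

theorem toL_eq_one {x : ↥K} : toL h x = 1 ↔ x ∈ Cfsg.pPrimeCore 2 ↥K := by
  have e := Subgroup.subgroupOfEquivOfLe h.le
  have h1 := pPrimeCore_subgroupOf_eq (p := 2) h.comp.2.1
  have h2 := Thompson.map_pPrimeCore_equiv (p := 2) (Subgroup.subgroupOfEquivOfLe h.le)
  rw [Subtype.ext_iff, ← h2]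
  show bar z ⟨x, h.le x.2⟩ = 1 ↔ _
  rw [QuotientGroup.mk'_apply, QuotientGroup.eq_one_iff]
  constructor
  · intro hx
    exact ⟨⟨⟨x, h.le x.2⟩, x.2⟩, h1.le hx, rfl⟩
  · rintro ⟨y, hy, he⟩
    rw [show (⟨x, h.le x.2⟩ : ↥(cen z)) = (y : ↥(cen z)) from
      Subtype.ext (congrArg Subtype.val he).symm]
    exact h1.ge hy

/-- The image is the quotient by the core. -/
noncomputable def equivBar : ↥K ⧸ Cfsg.pPrimeCore 2 ↥K ≃* ↥(Lb z K) :=
  (QuotientGroup.quotientMulEquivOfEq (by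
      ext x
      rw [MonoidHom.mem_ker, h.toL_eq_one])).trans
    (QuotientGroup.quotientKerEquivOfSurjective (toL h) h.toL_surjective)

theorem isQuasisimple_Lb : Cfsg.IsQuasisimple ↥(Lb z K) :=
  (isComponent_iff.mp h.comp.2.2.1).2

theorem commutator_Lb : commutator ↥(Lb z K) = ⊤ :=
  h.isQuasisimple_Lb.1.commutator_eq_top

theorem mem_NK {x : G} (hx : x ∈ K) : x ∈ NK z K := ⟨h.le hx, Subgroup.le_normalizer hx⟩

theorem lay_le_NK : lay z ≤ NK z K := le_inf (Subgroup.map_subtype_le _) h.lay_le_normalizer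

theorem act_toL (x : ↥K) : act z K ⟨x, h.mem_NK x.2⟩ = MulAut.conj (toL h x) := by
  refine MulEquiv.ext fun l => Subtype.ext ?_
  rw [act_apply]
  rfl

theorem act_mem_range {x : G} (hx : x ∈ lay z) :
    act z K ⟨x, h.lay_le_NK hx⟩ ∈ (MulAut.conj : ↥(Lb z K) →* MulAut ↥(Lb z K)).range := by
  haveI : Fact (Nat.Prime 2) := ⟨Nat.prime_two⟩
  obtain ⟨c, hc, rfl⟩ := hx
  have hL := h.comp.2.2.1
  have h1 : Cfsg.pLayer 2 ↥(cen z) ≤
      (Lb z K ⊔ Subgroup.centralizer (Lb z K : Set (↥(cen z) ⧸ Cfsg.pPrimeCore 2 ↥(cen z)))).comap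
        (bar z) := by
    refine sSup_le fun A hA => Subgroup.map_le_iff_le_comap.mp ?_
    rcases eq_or_ne (A.map (bar z)) (Lb z K) with e | e
    · exact e.le.trans le_sup_left
    · exact (component_le_centralizer hA.2.1 hL e).trans le_sup_right
  have h2 := h1 hc
  rw [Subgroup.mem_comap, ← SetLike.mem_coe,
    Subgroup.coe_mul_of_right_le_normalizer_left _ _ (Subgroup.centralizer_le_normalizer _)] at h2
  obtain ⟨l, hl, r, hr, hlr⟩ := h2
  simp only at hlr
  refine ⟨⟨l, hl⟩, ?_⟩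
  ext m
  have hm : r * (m : ↥(cen z) ⧸ Cfsg.pPrimeCore 2 ↥(cen z)) = m * r :=
    (Subgroup.mem_centralizer_iff.mp hr _ m.2).symm
  rw [act_apply]
  show l * (m : ↥(cen z) ⧸ Cfsg.pPrimeCore 2 ↥(cen z)) * l⁻¹ = bar z c * m * (bar z c)⁻¹
  rw [← hlr]
  calc l * (m : ↥(cen z) ⧸ Cfsg.pPrimeCore 2 ↥(cen z)) * l⁻¹ = l * (m * r) * r⁻¹ * l⁻¹ := by group
    _ = _ := by rw [← hm]; group

/-- An element acting trivially centralises `K` modulo the core. -/
theorem act_eq_one {g : ↥(NK z K)} (hg : act z K g = 1) {k : G} (hk : k ∈ K) :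
    (g : G) * k * (g : G)⁻¹ * k⁻¹ ∈ (Cfsg.pPrimeCore 2 ↥(cen z)).map (cen z).subtype := by
  refine ⟨⟨g, g.2.1⟩ * ⟨k, h.le hk⟩ * ⟨g, g.2.1⟩⁻¹ * ⟨k, h.le hk⟩⁻¹, ?_, rfl⟩
  rw [SetLike.mem_coe, ← QuotientGroup.eq_one_iff, ← QuotientGroup.mk'_apply, map_mul, map_mul,
    map_mul, map_inv, map_inv, mul_inv_eq_one]
  have h1 := congrArg Subtype.val (DFunLike.congr_fun hg (toL h ⟨k, hk⟩))
  rw [act_apply] at h1
  exact h1

theorem toL_z_ne_one : toL h ⟨z, h.mem⟩ ≠ 1 := by
  haveI : Fact (Nat.Prime 2) := ⟨Nat.prime_two⟩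
  intro e
  rw [h.toL_eq_one] at e
  have h1 := Subgroup.orderOf_dvd_natCard _ e
  rw [Subgroup.orderOf_mk, h.ord] at h1
  exact (Nat.prime_two.coprime_iff_not_dvd.mp Thompson.card_pPrimeCore_coprime.symm) h1

end IComp

theorem odd_core {z x : G} (hx : x ∈ (Cfsg.pPrimeCore 2 ↥(cen z)).map (cen z).subtype) :
    Odd (orderOf x) := by
  haveI : Fact (Nat.Prime 2) := ⟨Nat.prime_two⟩
  have h1 := Subgroup.orderOf_dvd_natCard _ hx
  rw [Subgroup.card_map_of_injective (cen z).subtype_injective] at h1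
  rcases Nat.even_or_odd (orderOf x) with h | h
  · exact absurd (h.two_dvd.trans h1)
      (Nat.prime_two.coprime_iff_not_dvd.mp Thompson.card_pPrimeCore_coprime.symm)
  · exact h

/-- If no element of order four of `K` centralises `f`, an involution of the layer of
`C(z) ∩ C(f)` centralises `K` modulo the core. -/
theorem act_eq_one_of_mem_pLayerOf {z : G} {K : Subgroup G} (h : IComp z K) {f : G}
    (hf : orderOf f = 2) (hfN : f ∈ NK z K)
    (hno : ∀ x ∈ K, (∃ k, x ^ 2 ^ k = 1) → Commute x f → x = 1 ∨ x = z)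
    {i : G} (hi : i ∈ Cfsg.pLayerOf 2 (cen z ⊓ cen f)) (hii : i * i = 1) :
    ∃ hN : i ∈ NK z K, act z K ⟨i, hN⟩ = 1 := by
  haveI : Fact (Nat.Prime 2) := ⟨Nat.prime_two⟩
  have hfz : Commute f z := mem_cen.mp hfN.1
  have hff : f * f = 1 := by
    have := pow_orderOf_eq_one f
    rwa [hf, pow_two] at this
  set M := Cfsg.pLayerOf 2 (cen z ⊓ cen f) with hMd
  have hMlay : M ≤ lay z := pLayerOf_inf_le (cen z) hfN.1 hf
  have hMN : M ≤ NK z K := hMlay.trans h.lay_le_NK
  refine ⟨hMN hi, ?_⟩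
  set t := act z K ⟨f, hfN⟩ with ht
  let ψ : ↥M →* MulAut ↥(Lb z K) := (act z K).comp (Subgroup.inclusion hMN)
  have hle : ψ.range ≤ innCen t := by
    rintro _ ⟨m, rfl⟩
    refine ⟨h.act_mem_range (hMlay m.2), Subgroup.mem_centralizer_singleton_iff.mpr ?_⟩
    have hmf : Commute (m : G) f := mem_cen.mp (Subgroup.map_subtype_le _ m.2 : (m : G) ∈ _).2
    show act z K _ * t = t * act z K _
    rw [ht, ← map_mul, ← map_mul]
    congr 1
    exact Subtype.ext hmf.eq
  have h4 : ¬ 4 ∣ Nat.card (fixedBy' t) := by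
    intro h4
    obtain ⟨P, hP⟩ := Sylow.exists_subgroup_card_pow_prime 2 (n := 2) (G := fixedBy' t) h4
    set zb := toL h ⟨z, h.mem⟩ with hzb
    have hle : P.map (fixedBy' t).subtype ≤ Subgroup.zpowers zb := by
      rintro _ ⟨p, hp, rfl⟩
      obtain ⟨j, hj⟩ : ∃ j, orderOf (p : ↥(Lb z K)) = 2 ^ j := by
        have h1 := Subgroup.orderOf_dvd_natCard _ hp
        rw [hP, ← Subgroup.orderOf_coe] at h1
        obtain ⟨j, -, hj⟩ := (Nat.dvd_prime_pow Nat.prime_two).mp h1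
        exact ⟨j, hj⟩
      obtain ⟨k, hk⟩ := h.toL_surjective (p : ↥(Lb z K))
      have hpt : t (p : ↥(Lb z K)) = p := p.2
      have hfk : f * (k : G) * f ∈ K := by
        have h1 := (Subgroup.mem_normalizer_iff.mp hfN.2 k).mp k.2
        rwa [inv_eq_of_mul_eq_one_right hff] at h1
      set q : ↥K := k⁻¹ * ⟨f * k * f, hfk⟩ with hq
      have hq1 : toL h q = 1 := by
        rw [hq, map_mul, map_inv, inv_mul_eq_one, hk]
        refine Subtype.ext ?_
        show ((p : ↥(Lb z K)) : ↥(cen z) ⧸ Cfsg.pPrimeCore 2 ↥(cen z)) = bar z ⟨f * k * f, h.le hfk⟩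
        calc ((p : ↥(Lb z K)) : ↥(cen z) ⧸ Cfsg.pPrimeCore 2 ↥(cen z)) = t (p : ↥(Lb z K)) :=
              (congrArg Subtype.val hpt).symm
          _ = bar z ⟨f * k * f, h.le hfk⟩ := ?_
        · show ((act z K ⟨f, hfN⟩ (p : ↥(Lb z K)) : ↥(Lb z K)) : ↥(cen z) ⧸ Cfsg.pPrimeCore 2 ↥(cen z)) = _
          rw [act_apply, ← hk]
          show bar z ⟨f, hfN.1⟩ * bar z ⟨k, h.le k.2⟩ * (bar z ⟨f, hfN.1⟩)⁻¹ = _
          rw [← map_inv, ← map_mul, ← map_mul]
          congr 1
          exact Subtype.ext (by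
            show f * (k : G) * f⁻¹ = f * k * f
            rw [inv_eq_of_mul_eq_one_right hff])
      have hqo : Odd (orderOf ((k : G)⁻¹ * (f * k * f))) := by
        have h1 := Subgroup.orderOf_dvd_natCard _ (h.toL_eq_one.mp hq1)
        rw [← Subgroup.orderOf_coe] at h1
        rcases Nat.even_or_odd (orderOf (q : G)) with he | he
        · exact absurd (he.two_dvd.trans h1)
            (Nat.prime_two.coprime_iff_not_dvd.mp Thompson.card_pPrimeCore_coprime.symm)
        · exact he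
      obtain ⟨m, hm⟩ := exists_fixed_of_odd hff hqo
      set k1 : ↥K := k * q ^ m with hk1
      have hk1p : toL h k1 = p := by rw [hk1, map_mul, map_pow, hq1, one_pow, mul_one, hk]
      have hk1f : Commute (k1 : G) f := by
        have h1 : f * (k1 : G) * f = k1 := hm
        calc (k1 : G) * f = f * k1 * f * f := by rw [h1]
          _ = f * k1 := by rw [mul_assoc (f * (k1 : G)), hff, mul_one]
      obtain ⟨m', j', hm', hpow, himg⟩ := exists_pPart_lift (p := 2) (toL h) k1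
      refine mem_of_pow_mem_of_orderOf (p := 2) hj hm' ?_
      show (p : ↥(Lb z K)) ^ m' ∈ _
      rw [← hk1p, ← himg]
      rcases hno _ (k1 ^ m').2 ⟨j', congrArg Subtype.val hpow⟩
        (by rw [SubmonoidClass.coe_pow]; exact hk1f.pow_left m') with e | e
      · rw [show k1 ^ m' = 1 from Subtype.ext e, map_one]
        exact one_mem _
      · rw [show k1 ^ m' = ⟨z, h.mem⟩ from Subtype.ext e]
        exact Subgroup.mem_zpowers _
    have h1 := Nat.le_of_dvd Nat.card_pos (Subgroup.card_dvd_of_le hle)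
    rw [Subgroup.card_map_of_injective (fixedBy' t).subtype_injective, hP, Nat.card_zpowers] at h1
    have h2 : orderOf zb ∣ 2 := orderOf_dvd_of_pow_eq_one (by
      rw [hzb, ← map_pow, show (⟨z, h.mem⟩ : ↥K) ^ 2 = 1 from
        Subtype.ext (by simp [pow_two, h.sq_z]), map_one])
    have := Nat.le_of_dvd two_pos h2
    norm_num at h1
    omega
  have hperf : commutator ↥ψ.range = ⊤ := by
    rw [eq_top_iff]
    rintro ⟨_, m, rfl⟩ -
    have h1 : m ∈ commutator ↥M := by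
      refine (Subgroup.mem_map_iff_mem M.subtype_injective).mp ?_
      rw [_root_.commutator_def, Subgroup.map_commutator, ← MonoidHom.range_eq_map,
        Subgroup.range_subtype, show ⁅M, M⁆ = M from pLayerOf_commutator_eq_self (cen z ⊓ cen f)]
      exact m.2
    have h2 := Subgroup.mem_map_of_mem ψ.rangeRestrict h1
    rw [_root_.commutator_def, Subgroup.map_commutator,
      Subgroup.map_top_of_surjective _ ψ.rangeRestrict_surjective] at h2
    exact h2
  have hodd : ¬ 2 ∣ Nat.card ↥ψ.range := odd_of_perfect_of_not_four_dvd hperf fun hd =>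
    h4 (hd.trans ((Subgroup.card_dvd_of_le hle).trans (card_innCen_dvd t)))
  have hone : orderOf (ψ.rangeRestrict ⟨i, hi⟩) = 1 := by
    refine Nat.eq_one_of_dvd_coprimes (Nat.prime_two.coprime_iff_not_dvd.mpr hodd)
      (orderOf_dvd_of_pow_eq_one ?_) (orderOf_dvd_natCard _)
    rw [← map_pow, show (⟨i, hi⟩ : ↥M) ^ 2 = 1 from Subtype.ext (by simp [pow_two, hii]), map_one]
  exact congrArg Subtype.val (orderOf_eq_one_iff.mp hone)

/-- Two components `K`, `J₀` whose reduced groups have the same number of elements modulo the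
centre cannot have a common covering subgroup centralising an automorphism of the second. -/
theorem false_of_cover {z s : G} {K J₀ : Subgroup G} (hK : IComp z K) (hJ : IComp s J₀)
    (hcard : Nat.card (MulAut.conj : ↥(Lb z K) →* MulAut ↥(Lb z K)).range =
      Nat.card (MulAut.conj : ↥(Lb s J₀) →* MulAut ↥(Lb s J₀)).range)
    {V : Subgroup G} (hVK : V ≤ K) (hVl : V ≤ lay s) (hzV : z ∈ V) (hVz : ∀ v ∈ V, Commute v z)
    (hcov : ∀ l : ↥(Lb z K), ∃ v, ∃ hv : v ∈ V, toL hK ⟨v, hVK hv⟩ = l)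
    (hne : act s J₀ ⟨z, hJ.lay_le_NK (hVl hzV)⟩ ≠ 1) : False := by
  haveI : Fact (Nat.Prime 2) := ⟨Nat.prime_two⟩
  set t := act s J₀ ⟨z, hJ.lay_le_NK (hVl hzV)⟩ with ht
  let ψ : ↥V →* MulAut ↥(Lb s J₀) :=
    (act s J₀).comp (Subgroup.inclusion (hVl.trans hJ.lay_le_NK))
  let χ : ↥V →* ↥(Lb z K) := (toL hK).comp (Subgroup.inclusion hVK)
  have hχ : Function.Surjective χ := fun l => by
    obtain ⟨v, hv, e⟩ := hcov l
    exact ⟨⟨v, hv⟩, e⟩
  have hle : ψ.range ≤ innCen t := by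
    rintro _ ⟨m, rfl⟩
    refine ⟨hJ.act_mem_range (hVl m.2), Subgroup.mem_centralizer_singleton_iff.mpr ?_⟩
    show act s J₀ _ * t = t * act s J₀ _
    rw [ht, ← map_mul, ← map_mul]
    congr 1
    exact Subtype.ext (hVz m m.2).eq
  haveI : (ψ.ker.map χ).Normal := Subgroup.Normal.map inferInstance χ hχ
  rcases normal_eq_top_or_le_center hK.isQuasisimple_Lb (ψ.ker.map χ) with e | e
  · obtain ⟨v, hv, hve⟩ := e.ge (Subgroup.mem_top (χ ⟨z, hzV⟩))
    set w : ↥V := v⁻¹ * ⟨z, hzV⟩ with hw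
    have hwc : χ w = 1 := by rw [hw, map_mul, map_inv, hve, inv_mul_cancel]
    have h1 := Subgroup.orderOf_dvd_natCard _ (hK.toL_eq_one.mp hwc)
    have h2 : ψ w = t := by
      rw [hw, map_mul, map_inv, MonoidHom.mem_ker.mp hv, inv_one, one_mul]
      rfl
    have h3 : orderOf t ∣ 2 := orderOf_dvd_of_pow_eq_one (by
      rw [ht, ← map_pow, show (⟨z, hJ.lay_le_NK (hVl hzV)⟩ : ↥(NK s J₀)) ^ 2 = 1 from
        Subtype.ext (by simp [pow_two, hK.sq_z]), map_one])
    have h4 : orderOf t ∣ Nat.card ↥(Cfsg.pPrimeCore 2 ↥K) := by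
      refine (h2 ▸ orderOf_map_dvd ψ w).trans ?_
      rwa [← orderOf_injective (Subgroup.inclusion hVK) (Subgroup.inclusion_injective hVK) w]
    exact hne (orderOf_eq_one_iff.mp (Nat.eq_one_of_dvd_coprimes
      Thompson.card_pPrimeCore_coprime.symm h3 h4))
  · have hk : ψ.ker ≤ (MulAut.conj.comp χ).ker := by
      intro v hv
      rw [MonoidHom.mem_ker, MonoidHom.comp_apply]
      ext l
      rw [MulAut.conj_apply, MulAut.one_apply,
        ← Subgroup.mem_center_iff.mp (e (Subgroup.mem_map_of_mem χ hv)) l, mul_inv_cancel_right]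
    have h1 := Subgroup.index_dvd_of_le hk
    rw [Subgroup.index_ker, Subgroup.index_ker, MonoidHom.range_comp,
      MonoidHom.range_eq_top.mpr hχ, ← MonoidHom.range_eq_map] at h1
    have h2 := Nat.le_of_dvd Nat.card_pos h1
    have h3 := Subgroup.card_le_of_le hle
    have h4 := card_innCen_lt hJ.commutator_Lb hne
    omega

end Cfsg.Agent.Intrinsic63
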