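import Mathlib

/-!
# Small facts on perfect groups and odd order square roots
-/

set_option autoImplicit false
set_option linter.style.haveILetI false

namespace Cfsg.Agent.Intrinsic63

open Subgroup
open scoped IsMulCommutative

/-- A perfect finite group with cyclic Sylow `2`-subgroups has odd order. -/
theorem odd_of_perfect_of_isCyclic {X : Type*} [Group X] [Finite X]
    (hX : commutator X = ⊤) (P : Sylow 2 X) (hP : IsCyclic (P : Subgroup X)) :
    ¬ 2 ∣ Nat.card X := by
  haveI : Fact (Nat.Prime 2) := ⟨Nat.prime_two⟩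
  intro h2
  have hmin : (Nat.card X).minFac = 2 := (Nat.minFac_eq_two_iff _).mpr h2
  haveI : IsMulCommutative (P : Subgroup X) := hP.isMulCommutative
  have hNC := IsCyclic.normalizer_le_centralizer hmin hP
  have hc := MonoidHom.ker_transferSylow_isComplement' P hNC
  have hkt : (MonoidHom.transferSylow P hNC).ker = ⊤ := by
    rw [eq_top_iff, ← hX]
    exact Abelianization.commutator_subset_ker _
  rw [hkt, isComplement'_top_left] at hc
  have h1 : Nat.card (P : Subgroup X) = 1 := by rw [hc, Subgroup.card_bot]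
  obtain ⟨k, hk⟩ := IsPGroup.iff_card.mp P.2
  exact (P.dvd_card_of_dvd_card h2).trans (dvd_of_eq h1) |> Nat.le_of_dvd one_pos |>
    fun h => absurd h (by norm_num)

/-- A perfect finite group whose order is not divisible by `4` has odd order. -/
theorem odd_of_perfect_of_not_four_dvd {X : Type*} [Group X] [Finite X]
    (hX : commutator X = ⊤) (h4 : ¬ 4 ∣ Nat.card X) : ¬ 2 ∣ Nat.card X := by
  haveI : Fact (Nat.Prime 2) := ⟨Nat.prime_two⟩
  obtain ⟨P⟩ := (inferInstance : Nonempty (Sylow 2 X))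
  refine odd_of_perfect_of_isCyclic hX P ?_
  obtain ⟨k, hk⟩ := IsPGroup.iff_card.mp P.2
  have hk1 : k ≤ 1 := by
    by_contra hlt
    refine h4 (dvd_trans ?_ (Subgroup.card_subgroup_dvd_card (P : Subgroup X)))
    rw [hk]
    exact (show 4 = 2 ^ 2 from rfl) ▸ pow_dvd_pow 2 (by omega)
  rcases Nat.le_one_iff_eq_zero_or_eq_one.mp hk1 with rfl | rfl
  · haveI : Subsingleton (P : Subgroup X) := (Nat.card_eq_one_iff_unique.mp (by simpa using hk)).1
    infer_instance
  · exact isCyclic_of_prime_card (p := 2) (by simpa using hk)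

/-- An element of an odd order subgroup has a square root among its powers. -/
theorem exists_sqrt {G : Type*} [Group G] [Finite G] {q : G} (hq : Odd (orderOf q)) :
    ∃ m : ℕ, q ^ m * q ^ m = q := by
  obtain ⟨m, hm⟩ := hq
  refine ⟨m + 1, ?_⟩
  rw [← pow_add, show m + 1 + (m + 1) = orderOf q + 1 by omega, pow_succ, pow_orderOf_eq_one,
    one_mul]

/-- A coset of an odd order normal subgroup fixed by an involution contains a fixed element. -/
theorem exists_fixed_of_odd {G : Type*} [Group G] [Finite G] {f x₀ : G} (hf : f * f = 1)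
    (hq : Odd (orderOf (x₀⁻¹ * (f * x₀ * f)))) :
    ∃ m : ℕ, f * (x₀ * (x₀⁻¹ * (f * x₀ * f)) ^ m) * f = x₀ * (x₀⁻¹ * (f * x₀ * f)) ^ m := by
  obtain ⟨m, hm⟩ := exists_sqrt hq
  refine ⟨m, ?_⟩
  set q := x₀⁻¹ * (f * x₀ * f) with hqd
  have hfi : f⁻¹ = f := inv_eq_of_mul_eq_one_right hf
  have hfq : f * q * f = q⁻¹ := by
    calc f * q * f = (f * x₀⁻¹ * f) * x₀ * (f * f) := by rw [hqd]; group
      _ = q⁻¹ := by rw [hqd, hf, mul_inv_rev, mul_inv_rev, mul_inv_rev, inv_inv, hfi]; group
  have hfm : f * q ^ m * f = (q ^ m)⁻¹ := by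
    have h := conj_pow (i := m) (a := f) (b := q)
    rw [hfi, hfq, inv_pow] at h
    exact h.symm
  calc f * (x₀ * q ^ m) * f = (f * x₀ * f) * (f * q ^ m * f) := by
        rw [show (f * x₀ * f) * (f * q ^ m * f) = f * x₀ * (f * f) * q ^ m * f by group, hf, mul_one]
        group
    _ = x₀ * q * (q ^ m)⁻¹ := by rw [hfm, hqd]; group
    _ = x₀ * (q ^ m * q ^ m) * (q ^ m)⁻¹ := by rw [hm]
    _ = x₀ * q ^ m := by group

end Cfsg.Agent.Intrinsic63
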