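import Mathlib
import Cfsg.Agent.S3977
import Cfsg.Agent.Lib.PGroup.Basic

/-!
# `2`-groups with a unique involution which are not cyclic

Only the facts about elements of order four are needed.
-/

set_option autoImplicit false
set_option linter.style.haveILetI false

namespace Cfsg.Agent.Intrinsic63

open Subgroup

variable {G : Type*} [Group G]

/-- A non-cyclic `2`-subgroup with exactly one involution `z`. -/
structure UniqInv (T : Subgroup G) (z : G) : Prop where
  two : IsPGroup 2 T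
  mem : z ∈ T
  ord : orderOf z = 2
  uniq : ∀ t ∈ T, orderOf t = 2 → t = z
  ncyc : ¬ IsCyclic T

namespace UniqInv

variable {T : Subgroup G} {z : G} (h : UniqInv T z)
include h

theorem sq_z : z * z = 1 := by
  have := pow_orderOf_eq_one z
  rwa [h.ord, pow_two] at this

theorem ne_one : z ≠ 1 := fun e => by
  have := h.ord
  rw [e, orderOf_one] at this
  omega

theorem inv_z : z⁻¹ = z := inv_eq_of_mul_eq_one_right h.sq_z

theorem mem_or {t : G} (ht : t ∈ T) (h2 : t * t = 1) : t = 1 ∨ t = z := by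
  rcases eq_or_ne t 1 with e | e
  · exact Or.inl e
  · exact Or.inr (h.uniq t ht (orderOf_eq_prime (by rw [pow_two, h2]) e))

theorem sq_eq {a : G} (ha : a ∈ T) (h4 : orderOf a = 4) : a * a = z := by
  refine h.uniq _ (mul_mem ha ha) ?_
  rw [← pow_two, orderOf_pow' a two_ne_zero, h4]
  norm_num

theorem order_four {a : G} (ha : a * a = z) : orderOf a = 4 := by
  have h1 : ¬ a ^ 2 ^ 1 = 1 := by
    rw [pow_one, pow_two, ha]
    exact h.ne_one
  have h2 : a ^ 2 ^ (1 + 1) = 1 := by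
    rw [show 2 ^ (1 + 1) = 2 + 2 from rfl, pow_add, pow_two, ha, h.sq_z]
  simpa using orderOf_eq_prime_pow (p := 2) h1 h2

theorem commute_z {t : G} (ht : t ∈ T) : Commute z t := by
  have h1 : t * z * t⁻¹ = z := by
    refine h.uniq _ (mul_mem (mul_mem ht h.mem) (inv_mem ht)) ?_
    rw [show t * z * t⁻¹ = MulAut.conj t z from rfl, MulEquiv.orderOf_eq, h.ord]
  exact (mul_inv_eq_iff_eq_mul.mp h1).symm

theorem mul_z {a : G} (h4 : a * a = z) : a * z = a⁻¹ := by
  refine eq_inv_of_mul_eq_one_right ?_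
  rw [← mul_assoc, h4, h.sq_z]

/-- Elements of order four which commute generate the same subgroup. -/
theorem eq_or_eq_inv {a x : G} (ha : a ∈ T) (hx : x ∈ T) (ha4 : orderOf a = 4)
    (hx4 : orderOf x = 4) (hc : Commute a x) : x = a ∨ x = a⁻¹ := by
  have h2 : x * a * (x * a) = 1 := by
    calc x * a * (x * a) = x * (a * x) * a := by group
      _ = x * (x * a) * a := by rw [hc.eq]
      _ = (x * x) * (a * a) := by group
      _ = 1 := by rw [h.sq_eq hx hx4, h.sq_eq ha ha4, h.sq_z]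
  rcases h.mem_or (mul_mem hx ha) h2 with e | e
  · exact Or.inr (eq_inv_of_mul_eq_one_left e)
  · left
    calc x = x * a * a⁻¹ := by group
      _ = z * a⁻¹ := by rw [e]
      _ = a := by rw [← h.sq_eq ha ha4]; group

/-- An element with square different from `1` which commutes with `a` has a power equal to `a`. -/
theorem mem_zpowers {a t : G} (ha : a ∈ T) (ht : t ∈ T) (ha4 : orderOf a = 4)
    (ht2 : t * t ≠ 1) (hc : Commute a t) : a ∈ Subgroup.zpowers t := by
  obtain ⟨k, hk⟩ := IsPGroup.iff_orderOf.mp h.two ⟨t, ht⟩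
  rw [Subgroup.orderOf_mk] at hk
  have hk2 : 2 ≤ k := by
    by_contra hlt
    refine ht2 ?_
    rw [← pow_two]
    exact orderOf_dvd_iff_pow_eq_one.mp
      (hk ▸ (show 2 ^ k ∣ 2 ^ 1 from pow_dvd_pow 2 (by omega)))
  obtain ⟨i, rfl⟩ : ∃ i, k = i + 2 := ⟨k - 2, by omega⟩
  have hx4 : orderOf (t ^ 2 ^ i) = 4 := by
    rw [orderOf_pow' t (by positivity), hk, Nat.gcd_eq_right (pow_dvd_pow 2 (Nat.le_add_right i 2)),
      Nat.pow_div (Nat.le_add_right i 2) two_pos, Nat.add_sub_cancel_left]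
    rfl
  rcases h.eq_or_eq_inv (pow_mem ht _) ha hx4 ha4 (hc.pow_right _).symm with e | e
  · rw [e]; exact pow_mem (Subgroup.mem_zpowers t) _
  · rw [e]; exact inv_mem (pow_mem (Subgroup.mem_zpowers t) _)

/-- Some subgroup of order four is normalised by a given `2`-group normalising `T`. -/
theorem exists_normalized [Finite G] {R : Subgroup G} (hR : IsPGroup 2 R) (hTR : T ≤ R)
    (hn : ∀ s ∈ R, ∀ t ∈ T, s * t * s⁻¹ ∈ T) :
    ∃ a ∈ T, orderOf a = 4 ∧ ∀ s ∈ R, s * a * s⁻¹ = a ∨ s * a * s⁻¹ = a⁻¹ := by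
  haveI : Fact (Nat.Prime 2) := ⟨Nat.prime_two⟩
  set zz : R := ⟨z, hTR h.mem⟩ with hzz
  set Z := Subgroup.zpowers zz with hZ
  have hzfix : ∀ s : R, s * zz * s⁻¹ = zz := fun s => Subtype.ext <| h.uniq _ (hn _ s.2 _ h.mem) (by
    show orderOf (MulAut.conj (s : G) z) = 2
    rw [MulEquiv.orderOf_eq, h.ord])
  haveI : Z.Normal := ⟨fun x hx g => by
    obtain ⟨i, rfl⟩ := Subgroup.mem_zpowers_iff.mp hx
    rw [← conj_zpow, hzfix]
    exact zpow_mem (Subgroup.mem_zpowers zz) i⟩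
  have hmemZ : ∀ x : R, x ∈ Z → (x : G) = 1 ∨ (x : G) = z := by
    intro x hx
    obtain ⟨i, rfl⟩ := Subgroup.mem_zpowers_iff.mp hx
    refine h.mem_or (by rw [Subgroup.coe_zpow]; exact zpow_mem h.mem i) ?_
    rw [Subgroup.coe_zpow, ← (Commute.refl z).mul_zpow, h.sq_z, one_zpow]
  set q := QuotientGroup.mk' Z with hq
  set T' := T.subgroupOf R with hT'
  haveI : T'.Normal := ⟨fun x hx g => hn g g.2 x hx⟩
  haveI : (T'.map q).Normal := Subgroup.Normal.map inferInstance q (QuotientGroup.mk'_surjective Z)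
  have hQ : IsPGroup 2 (R ⧸ Z) := hR.to_quotient Z
  have hne : T'.map q ≠ ⊥ := by
    intro e
    rw [Subgroup.map_eq_bot_iff, hq, QuotientGroup.ker_mk'] at e
    refine h.ncyc ⟨⟨z, h.mem⟩, fun t => ?_⟩
    rcases hmemZ ⟨t, hTR t.2⟩ (e t.2) with e1 | e1
    · exact ⟨0, Subtype.ext (by simpa using e1.symm)⟩
    · exact ⟨1, Subtype.ext (by simpa using e1.symm)⟩
  obtain ⟨w, hw, hw1⟩ : ∃ w ∈ T'.map q ⊓ Subgroup.center (R ⧸ Z), w ≠ 1 :=
    (Subgroup.ne_bot_iff_exists_ne_one.mp (PGroup.inf_center_ne_bot hQ hne)).elim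
      fun w hw => ⟨w, w.2, fun e => hw (Subtype.ext e)⟩
  obtain ⟨hw, hwc⟩ := Subgroup.mem_inf.mp hw
  obtain ⟨j, hj⟩ := hQ w
  -- a power of order two modulo `Z`
  obtain ⟨v, hv, hvc, hv1, hv2⟩ : ∃ v, v ∈ T'.map q ∧ v ∈ Subgroup.center (R ⧸ Z) ∧ v ≠ 1 ∧
      v * v = 1 := by
    have key : ∀ j : ℕ, ∀ u ∈ T'.map q, u ∈ Subgroup.center (R ⧸ Z) → u ≠ 1 → u ^ 2 ^ j = 1 →
        ∃ v, v ∈ T'.map q ∧ v ∈ Subgroup.center (R ⧸ Z) ∧ v ≠ 1 ∧ v * v = 1 := by
      intro j
      induction j with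
      | zero => intro u _ _ hu1 e; exact absurd (by simpa using e) hu1
      | succ j ih =>
        intro u hu huc hu1 e
        by_cases h2 : u * u = 1
        · exact ⟨u, hu, huc, hu1, h2⟩
        · refine ih (u * u) (mul_mem hu hu) (mul_mem huc huc) h2 ?_
          rw [← pow_two, ← pow_mul, ← pow_succ']
          exact e
    exact key j w hw hwc hw1 hj
  obtain ⟨x, hx, rfl⟩ := hv
  have hxZ : x ∉ Z := fun e => hv1 ((QuotientGroup.eq_one_iff x).mpr e)
  have hxT : (x : G) ∈ T := hx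
  have hxx : x * x ∈ Z := by
    rw [← QuotientGroup.eq_one_iff, ← QuotientGroup.mk'_apply, map_mul]
    exact hv2
  have hsq : (x : G) * x = z := by
    rcases hmemZ _ hxx with e | e
    · exfalso
      rcases h.mem_or hxT e with e1 | e1
      · exact hxZ (by rw [show x = 1 from Subtype.ext e1]; exact one_mem _)
      · exact hxZ (by rw [show x = zz from Subtype.ext e1]; exact Subgroup.mem_zpowers zz)
    · exact e
  refine ⟨x, hxT, h.order_four hsq, fun s hs => ?_⟩
  have h1 := Subgroup.mem_center_iff.mp hvc (q ⟨s, hs⟩)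
  have h2 : x⁻¹ * (⟨s, hs⟩ * x * ⟨s, hs⟩⁻¹) ∈ Z := by
    rw [← QuotientGroup.eq_one_iff, ← QuotientGroup.mk'_apply, map_mul, map_inv, map_mul, map_mul,
      map_inv, ← hq, h1]
    group
  rcases hmemZ _ h2 with e | e
  · left
    calc s * x * s⁻¹ = (x : G) * ((x : G)⁻¹ * (s * x * s⁻¹)) := by group
      _ = x := by rw [show ((x : G)⁻¹ * (s * x * s⁻¹)) = 1 from e, mul_one]
  · right
    calc s * x * s⁻¹ = (x : G) * ((x : G)⁻¹ * (s * x * s⁻¹)) := by group
      _ = (x : G)⁻¹ := by rw [show ((x : G)⁻¹ * (s * x * s⁻¹)) = z from e, h.mul_z hsq]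

/-- Some element of order four is inverted by another. -/
theorem exists_inverter [Finite G] {a : G} (ha : a ∈ T) (ha4 : orderOf a = 4) :
    ∃ d ∈ T, orderOf d = 4 ∧ d * a * d⁻¹ = a⁻¹ := by
  classical
  haveI : Fact (Nat.Prime 2) := ⟨Nat.prime_two⟩
  -- not every element commutes with `a`
  obtain ⟨t₀, ht₀, ht₀c⟩ : ∃ t ∈ T, ¬ Commute a t := by
    by_contra hall
    push Not at hall
    refine h.ncyc ?_
    obtain ⟨n, hn⟩ := IsPGroup.iff_card.mp h.two
    have h4 : orderOf (⟨a, ha⟩ : T) = 4 := by rw [Subgroup.orderOf_mk, ha4]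
    have hd : 4 ∣ 2 ^ n := by rw [← hn, ← h4]; exact orderOf_dvd_natCard _
    have hn2 : 2 ≤ n := (Nat.pow_dvd_pow_iff_le_right (x := 2) (by norm_num)).mp hd
    rcases Nat.lt_or_eq_of_le hn2 with hn3 | hn3
    swap
    · refine isCyclic_of_orderOf_eq_card (⟨a, ha⟩ : T) ?_
      rw [h4, hn, ← hn3]
      norm_num
    refine Cfsg.Agent.S3977.result 2 n 2 Nat.prime_two hn (by norm_num) hn3 (Or.inr le_rfl)
      fun A B hA hB => ?_
    suffices key : ∀ A : Subgroup T, Nat.card A = 2 ^ 2 → A = Subgroup.zpowers (⟨a, ha⟩ : T) by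
      rw [key A hA, key B hB]
    intro A hA
    obtain ⟨x, hxA, hx4⟩ : ∃ x ∈ A, orderOf x = 4 := by
      by_contra hcon
      push Not at hcon
      have hsub : ∀ x : A, ((x : T) : G) ∈ ({1, z} : Set G) := by
        intro x
        have hd : orderOf (x : T) ∣ 2 ^ 2 := hA ▸ Subgroup.orderOf_dvd_natCard _ x.2
        obtain ⟨i, hi, hio⟩ := (Nat.dvd_prime_pow Nat.prime_two).mp hd
        have hi2 : i ≤ 1 := by
          by_contra hlt
          exact hcon _ x.2 (by rw [hio, show i = 2 by omega]; norm_num)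
        have h1 : ((x : T) : G) * ((x : T) : G) = 1 := by
          have h2 : (x : T) ^ 2 = 1 := orderOf_dvd_iff_pow_eq_one.mp
            (hio ▸ (show 2 ^ i ∣ 2 ^ 1 from pow_dvd_pow 2 hi2))
          rw [← pow_two, ← Subgroup.coe_pow, h2, Subgroup.coe_one]
        rcases h.mem_or (x : T).2 h1 with e | e <;> simp [e]
      have h1 := Nat.card_le_card_of_injective (fun x : A => (⟨_, hsub x⟩ : ({1, z} : Set G)))
        (fun x y e => Subtype.ext (Subtype.ext (congrArg Subtype.val e :)))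
      rw [hA] at h1
      simp only [Nat.card_coe_set_eq] at h1
      have h2 : ({1, z} : Set G).ncard ≤ 2 := by
        exact (Set.ncard_insert_le 1 {z}).trans (by rw [Set.ncard_singleton])
      norm_num at h1
      omega
    have hmem : (⟨a, ha⟩ : T) ∈ A := by
      rcases h.eq_or_eq_inv ha x.2 ha4 (by rw [Subgroup.orderOf_coe]; exact hx4) (hall _ x.2)
        with e | e
      · rwa [show (⟨a, ha⟩ : T) = x from Subtype.ext e.symm]
      · rw [show (⟨a, ha⟩ : T) = x⁻¹ from Subtype.ext (by simp [e])]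
        exact inv_mem hxA
    refine (Subgroup.eq_of_le_of_card_ge (Subgroup.zpowers_le.mpr hmem) ?_).symm
    rw [hA, Nat.card_zpowers, h4]
    norm_num
  -- the centraliser of `a` is normalised by an element of the normaliser of `⟨a⟩`
  set C := (Subgroup.centralizer ({(⟨a, ha⟩ : T)} : Set T)) with hC
  haveI : Group.IsNilpotent T := h.two.isNilpotent
  have hCT : C < ⊤ := by
    refine lt_top_iff_ne_top.mpr fun e => ht₀c ?_
    have h1 : (⟨t₀, ht₀⟩ : T) ∈ C := e ▸ Subgroup.mem_top _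
    exact (congrArg Subtype.val (Subgroup.mem_centralizer_singleton_iff.mp h1)).symm
  have hlt := Group.normalizerCondition_of_isNilpotent C hCT
  obtain ⟨g, hg, hgC⟩ := SetLike.exists_of_lt hlt
  have haC : (⟨a, ha⟩ : T) ∈ C := Subgroup.mem_centralizer_singleton_iff.mpr rfl
  have h1 : g * ⟨a, ha⟩ * g⁻¹ ∈ C := (Subgroup.mem_normalizer_iff.mp hg _).mp haC
  have hc : Commute a ((g : G) * a * (g : G)⁻¹) :=
    (congrArg Subtype.val (Subgroup.mem_centralizer_singleton_iff.mp h1)).symm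
  have ho : orderOf ((g : G) * a * (g : G)⁻¹) = 4 := by
    rw [show (g : G) * a * (g : G)⁻¹ = MulAut.conj (g : G) a from rfl, MulEquiv.orderOf_eq, ha4]
  rcases h.eq_or_eq_inv ha (mul_mem (mul_mem g.2 ha) (inv_mem g.2)) ha4 ho hc with e | e
  · exfalso
    refine hgC (Subgroup.mem_centralizer_singleton_iff.mpr (Subtype.ext ?_))
    exact mul_inv_eq_iff_eq_mul.mp e
  refine ⟨g, g.2, ?_, e⟩
  -- an inverting element has order four
  obtain ⟨k, hk⟩ := IsPGroup.iff_orderOf.mp h.two g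
  rw [← Subgroup.orderOf_coe] at hk
  have hncomm : ¬ Commute (g : G) a := by
    intro hga
    rw [hga.eq, mul_inv_cancel_right] at e
    have := h.sq_eq ha ha4
    rw [eq_inv_iff_mul_eq_one] at e
    exact h.ne_one (this ▸ e)
  have hk2 : 2 ≤ k := by
    by_contra hlt
    refine hncomm ?_
    have h2 : (g : G) * g = 1 := by
      rw [← pow_two]
      exact orderOf_dvd_iff_pow_eq_one.mp
        (hk ▸ (show 2 ^ k ∣ 2 ^ 1 from pow_dvd_pow 2 (by omega)))
    rcases h.mem_or g.2 h2 with e1 | e1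
    · rw [e1]; exact Commute.one_left a
    · rw [e1]; exact h.commute_z ha
  rcases Nat.lt_or_eq_of_le hk2 with hk3 | hk3
  swap
  · rw [hk, ← hk3]; norm_num
  exfalso
  obtain ⟨i, rfl⟩ : ∃ i, k = i + 3 := ⟨k - 3, by omega⟩
  have hx4 : orderOf ((g : G) ^ 2 ^ (i + 1)) = 4 := by
    rw [orderOf_pow' (g : G) (by positivity), hk,
      Nat.gcd_eq_right (pow_dvd_pow 2 (show i + 1 ≤ i + 3 by omega)),
      Nat.pow_div (by omega) two_pos, show i + 3 - (i + 1) = 2 by omega]
    norm_num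
  have hsc : Commute a (((g : G) * g) ^ 2 ^ i) := by
    refine Commute.pow_right ?_ _
    have e2 : (g : G) * g * a * ((g : G) * g)⁻¹ = a := by
      calc (g : G) * g * a * ((g : G) * g)⁻¹ = g * (g * a * (g : G)⁻¹) * (g : G)⁻¹ := by group
        _ = g * a⁻¹ * (g : G)⁻¹ := by rw [e]
        _ = (g * a * (g : G)⁻¹)⁻¹ := by group
        _ = a := by rw [e, inv_inv]
    exact (mul_inv_eq_iff_eq_mul.mp e2).symm
  have hpow : ((g : G) * g) ^ 2 ^ i = (g : G) ^ 2 ^ (i + 1) := by
    rw [← pow_two, ← pow_mul, pow_succ']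
  rw [hpow] at hsc
  rcases h.eq_or_eq_inv ha (pow_mem g.2 _) ha4 hx4 hsc with e1 | e1
  · exact hncomm (e1 ▸ (Commute.refl (g : G)).pow_right _)
  · refine hncomm ?_
    have h3 := ((Commute.refl (g : G)).pow_right (2 ^ (i + 1))).inv_right
    rwa [e1, inv_inv] at h3

end UniqInv

end Cfsg.Agent.Intrinsic63
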