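import Cfsg.Prelude.Def_ClassificationStages
import Cfsg.Agent.Intrinsic63.Quat
import Cfsg.Agent.Intrinsic63.Perfect
import Cfsg.Agent.Lib.Components.LBalanceTwo
import Cfsg.Agent.Lib.Components.ZStarInst
import Cfsg.Agent.Lib.Components.ComponentIn
import Cfsg.Agent.ClassTech.BpBalance
import Cfsg.Agent.S2925

/-!
# `2`-components with a unique involution

`IComp z J`: `J` has the unique involution `z` and is a `2`-component of `C(z)`.
-/

set_option autoImplicit false
set_option linter.style.haveILetI false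
set_option linter.unusedSectionVars false

namespace Cfsg.Agent.Intrinsic63

open Subgroup
open Cfsg.Agent.Components
open scoped commutatorElement

universe u

variable {G : Type u} [Group G]

/-- The conjugate `g J g⁻¹`. -/
abbrev cj (g : G) (J : Subgroup G) : Subgroup G := J.map (MulAut.conj g).toMonoidHom

/-- The centraliser of an element. -/
abbrev cen (z : G) : Subgroup G := Subgroup.centralizer ({z} : Set G)

/-- The `2`-layer of the centraliser of `z`. -/
abbrev lay (z : G) : Subgroup G := Cfsg.pLayerOf 2 (cen z)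

theorem mem_cj {g : G} {J : Subgroup G} {x : G} : x ∈ cj g J ↔ g⁻¹ * x * g ∈ J := by
  constructor
  · rintro ⟨j, hj, rfl⟩
    simpa [mul_assoc] using hj
  · intro h
    exact ⟨_, h, by simp [mul_assoc]⟩

theorem conj_mem_cj {g : G} {J : Subgroup G} {x : G} (hx : x ∈ J) : g * x * g⁻¹ ∈ cj g J :=
  ⟨x, hx, rfl⟩

theorem cj_cj (g h : G) (J : Subgroup G) : cj g (cj h J) = cj (g * h) J :=
  Components.map_conj_map_conj J g h

theorem cj_one (J : Subgroup G) : cj 1 J = J := Components.map_conj_one J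

theorem cj_eq_self {g : G} {J : Subgroup G} :
    cj g J = J ↔ g ∈ Subgroup.normalizer (J : Set G) :=
  Components.map_conj_eq_iff_mem_normalizer

theorem mem_cen {z x : G} : x ∈ cen z ↔ Commute x z := Subgroup.mem_centralizer_singleton_iff

/-- `J` is a `2`-component of `C(z)`, and `z` is its only involution. -/
structure IComp (z : G) (J : Subgroup G) : Prop where
  ord : orderOf z = 2
  mem : z ∈ J
  uniq : ∀ t ∈ J, orderOf t = 2 → t = z
  comp : Cfsg.IsPComponentOf 2 J (cen z)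

variable [Finite G]

/-- Transport of the `p`-layer along an isomorphism. -/
theorem map_pLayer_equiv {A B : Type u} [Group A] [Group B] [Finite A] [Finite B] (e : A ≃* B) :
    (Cfsg.pLayer 2 A).map e.toMonoidHom = Cfsg.pLayer 2 B := by
  haveI : Fact (Nat.Prime 2) := ⟨Nat.prime_two⟩
  refine le_antisymm ?_ ?_
  · rw [Subgroup.map_le_iff_le_comap]
    refine sSup_le fun K hK => ?_
    rw [← Subgroup.map_le_iff_le_comap]
    exact pComponent_le_pLayer (ClassTech.isPComponent_map_equiv e hK)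
  · refine sSup_le fun K hK => ?_
    intro x hx
    exact ⟨e.symm x, pComponent_le_pLayer (ClassTech.isPComponent_map_equiv e.symm hK)
      ⟨x, hx, rfl⟩, e.apply_symm_apply x⟩

/-- The `p`-layer of a subgroup computed inside a larger subgroup. -/
theorem pLayerOf_subgroupOf {A B : Subgroup G} (h : A ≤ B) :
    (Cfsg.pLayerOf 2 (A.subgroupOf B)).map B.subtype = Cfsg.pLayerOf 2 A := by
  rw [Cfsg.pLayerOf, Cfsg.pLayerOf, ← map_pLayer_equiv (Subgroup.subgroupOfEquivOfLe h),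
    Subgroup.map_map, Subgroup.map_map]
  rfl

/-- `L`-balance: `L(C_H(z)) ≤ L(H)`. -/
theorem pLayerOf_inf_le (H : Subgroup G) {z : G} (hz : z ∈ H) (h2 : orderOf z = 2) :
    Cfsg.pLayerOf 2 (H ⊓ cen z) ≤ Cfsg.pLayerOf 2 H := by
  haveI : Fact (Nat.Prime 2) := ⟨Nat.prime_two⟩
  set T := Subgroup.zpowers (⟨z, hz⟩ : H) with hT
  have hTp : IsPGroup 2 T := IsPGroup.of_card (n := 1) (by
    rw [hT, Nat.card_zpowers, Subgroup.orderOf_mk, h2, pow_one])
  have hC : Subgroup.centralizer (T : Set H) = (H ⊓ cen z).subgroupOf H := by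
    ext x
    rw [hT, Subgroup.mem_subgroupOf, Subgroup.mem_inf, mem_cen, Subgroup.mem_centralizer_iff]
    constructor
    · exact fun hx => ⟨x.2, (congrArg Subtype.val (hx _ (Subgroup.mem_zpowers _))).symm⟩
    · rintro ⟨-, hc⟩ y hy
      obtain ⟨i, rfl⟩ := Subgroup.mem_zpowers_iff.mp hy
      exact Subtype.ext (by simpa using (hc.zpow_right i).eq.symm)
  have hb := map_pLayer_centralizer_le zStarProperty.{u} T hTp
  rw [hC] at hb
  rw [← pLayerOf_subgroupOf (inf_le_left : H ⊓ cen z ≤ H)]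
  exact Subgroup.map_mono hb

/-- The `p`-layer is perfect. -/
theorem pLayer_commutator_eq_self (A : Type u) [Group A] [Finite A] :
    ⁅Cfsg.pLayer 2 A, Cfsg.pLayer 2 A⁆ = Cfsg.pLayer 2 A := by
  haveI : Fact (Nat.Prime 2) := ⟨Nat.prime_two⟩
  refine le_antisymm (Subgroup.commutator_le_self _) (sSup_le fun K hK => ?_)
  rw [← pComponent_commutator_eq_self hK]
  exact Subgroup.commutator_mono (pComponent_le_pLayer hK) (pComponent_le_pLayer hK)

theorem pLayerOf_commutator_eq_self (H : Subgroup G) :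
    ⁅Cfsg.pLayerOf 2 H, Cfsg.pLayerOf 2 H⁆ = Cfsg.pLayerOf 2 H := by
  rw [Cfsg.pLayerOf, ← Subgroup.map_commutator, pLayer_commutator_eq_self]

namespace IComp

variable {z : G} {J J₁ J₂ : Subgroup G}

omit [Finite G] in
theorem le (h : IComp z J) : J ≤ cen z := h.comp.1

omit [Finite G] in
theorem commute (h : IComp z J) {x : G} (hx : x ∈ J) : Commute x z := mem_cen.mp (h.le hx)

omit [Finite G] in
theorem sq_z (h : IComp z J) : z * z = 1 := by
  have := pow_orderOf_eq_one z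
  rwa [h.ord, pow_two] at this

omit [Finite G] in
theorem inv_z (h : IComp z J) : z⁻¹ = z := inv_eq_of_mul_eq_one_right h.sq_z

omit [Finite G] in
theorem ne_one (h : IComp z J) : z ≠ 1 := fun e => by
  have := h.ord
  rw [e, orderOf_one] at this
  omega

omit [Finite G] in
theorem mem_or (h : IComp z J) {t : G} (ht : t ∈ J) (h2 : t * t = 1) : t = 1 ∨ t = z := by
  rcases eq_or_ne t 1 with e | e
  · exact Or.inl e
  · exact Or.inr (h.uniq t ht (orderOf_eq_prime (by rw [pow_two, h2]) e))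

/-- Conjugation. -/
theorem map_conj (h : IComp z J) (g : G) : IComp (g * z * g⁻¹) (cj g J) := by
  haveI : Fact (Nat.Prime 2) := ⟨Nat.prime_two⟩
  refine ⟨?_, conj_mem_cj h.mem, ?_, ?_⟩
  · rw [show g * z * g⁻¹ = MulAut.conj g z from rfl, MulEquiv.orderOf_eq, h.ord]
  · rintro _ ⟨t, ht, rfl⟩ ht2
    rw [MulEquiv.coe_toMonoidHom, MulEquiv.orderOf_eq] at ht2
    rw [MulEquiv.coe_toMonoidHom, h.uniq t ht ht2]
    rfl
  · have hCe : (cen z).map (MulAut.conj g).toMonoidHom = cen (g * z * g⁻¹) :=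
      map_conj_centralizer_singleton g z
    have hle : cj g J ≤ cen (g * z * g⁻¹) := hCe ▸ Subgroup.map_mono h.le
    refine ⟨hle, ?_⟩
    set e := ((cen z).equivMapOfInjective (MulAut.conj g).toMonoidHom
      (MulAut.conj g).injective).trans (MulEquiv.subgroupCongr hCe) with he
    have hmap : (J.subgroupOf (cen z)).map e.toMonoidHom = (cj g J).subgroupOf _ := by
      ext x
      rw [Subgroup.mem_subgroupOf]
      constructor
      · rintro ⟨y, hy, rfl⟩
        exact ⟨y, hy, rfl⟩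
      · rintro ⟨y, hy, hyx⟩
        exact ⟨⟨y, h.le hy⟩, hy, Subtype.ext hyx⟩
    exact hmap ▸ ClassTech.isPComponent_map_equiv e h.comp.2

theorem conj_of_commute (h : IComp z J) {g : G} (hg : Commute g z) : IComp z (cj g J) := by
  have h1 := h.map_conj g
  rwa [hg.eq, mul_inv_cancel_right] at h1

theorem le_lay (h : IComp z J) : J ≤ lay z := by
  haveI : Fact (Nat.Prime 2) := ⟨Nat.prime_two⟩
  intro x hx
  exact ⟨⟨x, h.le hx⟩, pComponent_le_pLayer h.comp.2 hx, rfl⟩

theorem lay_le_normalizer (h : IComp z J) : lay z ≤ Subgroup.normalizer (J : Set G) := by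
  haveI : Fact (Nat.Prime 2) := ⟨Nat.prime_two⟩
  rintro _ ⟨x, hx, rfl⟩
  have h1 := Subgroup.le_normalizer_map (cen z).subtype
    (Subgroup.mem_map_of_mem (cen z).subtype (pLayer_le_normalizer h.comp.2 hx))
  rwa [map_subgroupOf_eq_of_le h.comp.1] at h1

theorem le_normalizer (h₁ : IComp z J₁) (h₂ : IComp z J₂) :
    J₂ ≤ Subgroup.normalizer (J₁ : Set G) := h₂.le_lay.trans h₁.lay_le_normalizer

theorem commutator_mem_core (h₁ : IComp z J₁) (h₂ : IComp z J₂) (hne : J₁ ≠ J₂) {x y : G}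
    (hx : x ∈ J₁) (hy : y ∈ J₂) :
    ⁅x, y⁆ ∈ (Cfsg.pPrimeCore 2 ↥(cen z)).map (cen z).subtype := by
  haveI : Fact (Nat.Prime 2) := ⟨Nat.prime_two⟩
  have hne' : J₁.subgroupOf (cen z) ≠ J₂.subgroupOf (cen z) := by
    intro e
    have := congrArg (Subgroup.map (cen z).subtype) e
    rw [map_subgroupOf_eq_of_le h₁.le, map_subgroupOf_eq_of_le h₂.le] at this
    exact hne this
  have h := pComponent_commutator_le h₁.comp.2 h₂.comp.2 hne'
  rw [map_pPrimeCore_subtype_eq h₁.comp.2.1] at h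
  refine ⟨⁅(⟨x, h₁.le hx⟩ : cen z), ⟨y, h₂.le hy⟩⁆, ?_, rfl⟩
  exact (Subgroup.mem_inf.mp (Subgroup.mem_inf.mp (h (Subgroup.commutator_mem_commutator
    (show (⟨x, h₁.le hx⟩ : cen z) ∈ J₁.subgroupOf _ from hx)
    (show (⟨y, h₂.le hy⟩ : cen z) ∈ J₂.subgroupOf _ from hy)))).1).2

/-- Elements of distinct components inside one `2`-group commute. -/
theorem commute_of_two (h₁ : IComp z J₁) (h₂ : IComp z J₂) (hne : J₁ ≠ J₂) {P : Subgroup G}
    (hP : IsPGroup 2 P) {x y : G} (hx : x ∈ J₁) (hy : y ∈ J₂) (hxP : x ∈ P) (hyP : y ∈ P) :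
    Commute x y := by
  haveI : Fact (Nat.Prime 2) := ⟨Nat.prime_two⟩
  have hcop : (Nat.card ↥((Cfsg.pPrimeCore 2 ↥(cen z)).map (cen z).subtype)).Coprime 2 := by
    rw [Subgroup.card_map_of_injective (cen z).subtype_injective]
    exact Thompson.card_pPrimeCore_coprime
  have h : ⁅x, y⁆ ∈ P ⊓ (Cfsg.pPrimeCore 2 ↥(cen z)).map (cen z).subtype :=
    ⟨P.mul_mem (P.mul_mem (P.mul_mem hxP hyP) (P.inv_mem hxP)) (P.inv_mem hyP),
      h₁.commutator_mem_core h₂ hne hx hy⟩
  rw [Thompson.inf_eq_bot_of_isPGroup_of_coprime hP hcop, Subgroup.mem_bot] at h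
  exact commutatorElement_eq_one_iff_commute.mp h

end IComp

/-- A Sylow `2`-subgroup of `C(z)`, as a subgroup of `G`. -/
def IsSyl (z : G) (R : Subgroup G) : Prop :=
  ∃ S : Sylow 2 ↥(cen z), (S : Subgroup ↥(cen z)).map (cen z).subtype = R

omit [Finite G] in
theorem IsSyl.two {z : G} {R : Subgroup G} (h : IsSyl z R) : IsPGroup 2 R := by
  obtain ⟨S, rfl⟩ := h
  exact S.2.map _

omit [Finite G] in
theorem IsSyl.le {z : G} {R : Subgroup G} (h : IsSyl z R) : R ≤ cen z := by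
  obtain ⟨S, rfl⟩ := h
  exact Subgroup.map_subtype_le _

omit [Finite G] in
theorem exists_isSyl {z : G} {P : Subgroup G} (hP : IsPGroup 2 P) (hPC : P ≤ cen z) :
    ∃ R, IsSyl z R ∧ P ≤ R := by
  obtain ⟨S, hS⟩ := (hP.comap_subtype (K := cen z)).exists_le_sylow
  exact ⟨_, ⟨S, rfl⟩, fun x hx => ⟨⟨x, hPC hx⟩, hS hx, rfl⟩⟩

theorem IComp.uniqInv {z : G} {J R : Subgroup G} (h : IComp z J) (hR : IsSyl z R) :
    UniqInv (R ⊓ J) z := by
  haveI : Fact (Nat.Prime 2) := ⟨Nat.prime_two⟩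
  obtain ⟨S, rfl⟩ := hR
  let C := cen z
  change UniqInv ((S : Subgroup C).map C.subtype ⊓ J) z
  set J0 := J.subgroupOf C with hJ0
  have hsyl := S2925.isSylowIn_inf_of_isSubnormal S h.comp.2.1
  have hmap : ((S : Subgroup C) ⊓ J0).map C.subtype = (S : Subgroup C).map C.subtype ⊓ J := by
    rw [Subgroup.map_inf _ _ _ C.subtype_injective, hJ0, map_subgroupOf_eq_of_le h.le]
  have hzT : z ∈ (S : Subgroup C).map C.subtype ⊓ J := by
    set zc : C := ⟨z, mem_cen.mpr (Commute.refl z)⟩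
    have hzp : IsPGroup 2 (Subgroup.zpowers zc) := IsPGroup.of_card (n := 1) (by
      rw [Nat.card_zpowers, Subgroup.orderOf_mk, h.ord, pow_one])
    obtain ⟨c, -, hc⟩ := hsyl.exists_cnj_le hzp
      (Subgroup.zpowers_le.mpr (show zc ∈ J0 from h.mem))
    have hcz : c * zc * c⁻¹ = zc := Subtype.ext (by
      show (c : G) * z * (c : G)⁻¹ = z
      rw [(mem_cen.mp c.2).eq, mul_inv_cancel_right])
    have h1 : zc ∈ (S : Subgroup C) ⊓ J0 := hcz ▸ hc ⟨zc, Subgroup.mem_zpowers zc, rfl⟩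
    rw [← hmap]
    exact ⟨zc, h1, rfl⟩
  refine ⟨IsPGroup.to_le (S.2.map C.subtype) inf_le_left, hzT, h.ord,
    fun t ht => h.uniq t ht.2, fun hcyc => ?_⟩
  -- the component is perfect of even order
  have hperf : commutator ↥J = ⊤ :=
    Group.IsPerfect.commutator_eq_top (G := ↥J) (self := Subgroup.isPerfect_iff.mpr
      (ClassTech.pComponentOf_commutator h.comp))
  obtain ⟨P, hP⟩ := hsyl.exists_sylow
  set e := Subgroup.subgroupOfEquivOfLe h.le with he
  let P' : Sylow 2 ↥J := P.mapSurjective (f := e.toMonoidHom) e.surjective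
  have hP' : ((P' : Subgroup ↥J)).map J.subtype = (S : Subgroup C).map C.subtype ⊓ J := by
    rw [← hmap, ← hP, Subgroup.map_map]
    show ((P : Subgroup ↥J0).map e.toMonoidHom).map J.subtype = _
    rw [Subgroup.map_map]
    rfl
  haveI : IsCyclic ↥((P' : Subgroup ↥J)) := by
    refine isCyclic_of_injective
      ((MulEquiv.subgroupCongr hP').toMonoidHom.comp
        ((P' : Subgroup ↥J).equivMapOfInjective J.subtype J.subtype_injective).toMonoidHom) ?_
    exact (MulEquiv.subgroupCongr hP').injective.comp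
      ((P' : Subgroup ↥J).equivMapOfInjective J.subtype J.subtype_injective).injective
  refine odd_of_perfect_of_isCyclic hperf P' inferInstance ?_
  have := orderOf_dvd_natCard (⟨z, h.mem⟩ : J)
  rwa [Subgroup.orderOf_mk, h.ord] at this

omit [Finite G] in
theorem IsSyl.conj_mem {z : G} {R J : Subgroup G} {r t : G}
    (hr : r ∈ R) (ht : t ∈ R ⊓ J) : r * t * r⁻¹ ∈ R ⊓ cj r J :=
  ⟨R.mul_mem (R.mul_mem hr ht.1) (R.inv_mem hr), conj_mem_cj ht.2⟩

/-- Two components share no element of order four. -/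
theorem IComp.eq_of_four {z : G} {J₁ J₂ : Subgroup G} (h₁ : IComp z J₁) (h₂ : IComp z J₂)
    {x : G} (hx₁ : x ∈ J₁) (hx₂ : x ∈ J₂) (hx : ∃ k, x ^ 2 ^ k = 1) (h4 : x * x ≠ 1) :
    J₁ = J₂ := by
  haveI : Fact (Nat.Prime 2) := ⟨Nat.prime_two⟩
  by_contra hne
  obtain ⟨k, hk⟩ := hx
  obtain ⟨j, -, hj⟩ := (Nat.dvd_prime_pow Nat.prime_two).mp (orderOf_dvd_of_pow_eq_one hk)
  have hP : IsPGroup 2 (Subgroup.zpowers x) := IsPGroup.of_card (n := j) (by
    rw [Nat.card_zpowers, hj])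
  obtain ⟨R, hR, hxR⟩ := exists_isSyl hP (Subgroup.zpowers_le.mpr (h₁.le hx₁))
  have hxR' : x ∈ R := hxR (Subgroup.mem_zpowers x)
  have hu := h₁.uniqInv hR
  have hxT : x ∈ R ⊓ J₁ := ⟨hxR', hx₁⟩
  have hj2 : 2 ≤ j := by
    by_contra hlt
    refine h4 ?_
    rw [← pow_two]
    exact orderOf_dvd_iff_pow_eq_one.mp
      (hj ▸ (show 2 ^ j ∣ 2 ^ 1 from pow_dvd_pow 2 (by omega)))
  obtain ⟨i, rfl⟩ : ∃ i, j = i + 2 := ⟨j - 2, by omega⟩
  have ha4 : orderOf (x ^ 2 ^ i) = 4 := by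
    rw [orderOf_pow' x (by positivity), hj, Nat.gcd_eq_right (pow_dvd_pow 2 (Nat.le_add_right i 2)),
      Nat.pow_div (Nat.le_add_right i 2) two_pos, Nat.add_sub_cancel_left]
    norm_num
  obtain ⟨d, hd, -, hinv⟩ := hu.exists_inverter (pow_mem hxT _) ha4
  have hc : Commute d (x ^ 2 ^ i) :=
    (h₁.commute_of_two h₂ hne hR.two hd.2 hx₂ hd.1 hxR').pow_right _
  rw [hc.eq, mul_inv_cancel_right, eq_inv_iff_mul_eq_one] at hinv
  exact hu.ne_one ((hu.sq_eq (pow_mem hxT _) ha4) ▸ hinv)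

end Cfsg.Agent.Intrinsic63
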