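import Cfsg.Agent.Intrinsic63.Comp

/-!
# The diagonal of two components exchanged by an involution

If the involution `f` commutes with `z` and moves the component `J` of `C(z)`, then for a `2`-element
`a` of `J` commuting with its image, `a * a ^ f` lies in the `2`-layer of `C(f)`.
-/

set_option autoImplicit false
set_option linter.style.haveILetI false
set_option linter.unusedSectionVars false

namespace Cfsg.Agent.Intrinsic63

open Subgroup
open Cfsg.Agent.Components
open scoped commutatorElement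

universe u

variable {G : Type u} [Group G] [Finite G]

theorem mem_pLayerOf_diag {z : G} {J : Subgroup G} (hJ : IComp z J) {f : G} (hf : orderOf f = 2)
    (hfz : Commute f z) (hmove : cj f J ≠ J) {a : G} (ha : a ∈ J) (ha2 : ∃ k, a ^ 2 ^ k = 1)
    (hc : Commute a (f * a * f)) : a * (f * a * f) ∈ Cfsg.pLayerOf 2 (cen f ⊓ cen z) := by
  haveI : Fact (Nat.Prime 2) := ⟨Nat.prime_two⟩
  have hff : f * f = 1 := by
    have := pow_orderOf_eq_one f
    rwa [hf, pow_two] at this
  have hfi : f⁻¹ = f := inv_eq_of_mul_eq_one_right hff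
  have hJ' := hJ.conj_of_commute hfz
  set C := cen z with hC
  set J' := cj f J with hJ'def
  set fh : C := ⟨f, mem_cen.mpr hfz⟩ with hfh
  have hfh2 : fh * fh = 1 := Subtype.ext hff
  have hfhi : fh⁻¹ = fh := inv_eq_of_mul_eq_one_right hfh2
  set O := Cfsg.pPrimeCore 2 ↥C with hO
  set π := QuotientGroup.mk' O with hπ
  set A := J.subgroupOf C with hA
  set B := J'.subgroupOf C with hB
  have hAB : A ≠ B := by
    intro e
    have := congrArg (Subgroup.map C.subtype) e
    rw [hA, hB, map_subgroupOf_eq_of_le hJ.le, map_subgroupOf_eq_of_le hJ'.le] at this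
    exact hmove this.symm
  have hAc := hJ.comp.2
  have hBc := hJ'.comp.2
  have hπne : A.map π ≠ B.map π := fun e => hAB (isPComponent_eq_of_map_eq hAc hBc e)
  have hab : ∀ u ∈ A, ∀ v ∈ B, Commute (π u) (π v) := fun u hu v hv =>
    (mem_centralizer_iff.mp (component_le_centralizer hAc.2.1 hBc.2.1 hπne
      (Subgroup.mem_map_of_mem π hu)) (π v) (Subgroup.mem_map_of_mem π hv)).symm
  have hsig : ∀ u ∈ A, fh * u * fh ∈ B := by
    intro u hu
    have h1 : f * (u : G) * f⁻¹ ∈ J' := conj_mem_cj hu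
    rw [hfi] at h1
    exact h1
  have hsig' : ∀ v ∈ B, fh * v * fh ∈ A := by
    intro v hv
    have h1 : f⁻¹ * (v : G) * f ∈ J := mem_cj.mp hv
    rw [hfi] at h1
    exact h1
  have hffc : ∀ u : C, fh * (fh * u * fh) * fh = u := fun u => by
    calc fh * (fh * u * fh) * fh = (fh * fh) * u * (fh * fh) := by group
      _ = u := by rw [hfh2, one_mul, mul_one]
  have hsmul : ∀ u v : C, fh * (u * v) * fh = (fh * u * fh) * (fh * v * fh) := fun u v => by
    calc fh * (u * v) * fh = fh * u * 1 * v * fh := by group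
      _ = fh * u * (fh * fh) * v * fh := by rw [hfh2]
      _ = (fh * u * fh) * (fh * v * fh) := by group
  -- the diagonal map
  let δ : A →* ↥C ⧸ O := MonoidHom.mk' (fun j => π j * π (fh * (j : C) * fh)) (fun j k => by
    have h := (hab (k : C) k.2 _ (hsig _ j.2)).eq
    show π ((j : C) * k) * π (fh * ((j : C) * k) * fh) = _
    rw [hsmul, map_mul, map_mul]
    calc π (j : C) * π k * (π (fh * (j : C) * fh) * π (fh * (k : C) * fh))
        = π (j : C) * (π k * π (fh * (j : C) * fh)) * π (fh * (k : C) * fh) := by group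
      _ = π (j : C) * (π (fh * (j : C) * fh) * π k) * π (fh * (k : C) * fh) := by rw [h]
      _ = _ := by group)
  have hδ : ∀ j : A, δ j = π j * π (fh * (j : C) * fh) := fun _ => rfl
  have hkerδ : Cfsg.pPrimeCore 2 ↥A ≤ δ.ker := by
    intro j hj
    rw [← pPrimeCore_subgroupOf_eq hAc.1, Subgroup.mem_subgroupOf] at hj
    rw [MonoidHom.mem_ker, hδ]
    have h1 : π (j : C) = 1 := (QuotientGroup.eq_one_iff (j : C)).mpr hj
    rw [map_mul, map_mul, h1, mul_one, ← map_mul, hfh2, map_one, mul_one]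
  have hnt : Nontrivial δ.range := by
    rw [Subgroup.nontrivial_iff_ne_bot]
    intro e
    refine component_not_isSolvable hAc.2.1 ?_
    have hcent : A.map π ≤ Subgroup.centralizer (A.map π : Set (↥C ⧸ O)) := by
      rintro _ ⟨u, hu, rfl⟩
      have h1 : π u * π (fh * u * fh) = 1 := by
        rw [← Subgroup.mem_bot, ← e]
        exact ⟨⟨u, hu⟩, rfl⟩
      have h2 : π u ∈ B.map π := by
        rw [mul_eq_one_iff_eq_inv.mp h1]
        exact inv_mem (Subgroup.mem_map_of_mem π (hsig u hu))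
      exact component_inf_le_centralizer hAc.2.1 hBc.2.1 hπne
        ⟨Subgroup.mem_map_of_mem π hu, h2⟩
    haveI : IsMulCommutative ↥(A.map π) := ⟨⟨fun a b => Subtype.ext
      (mem_centralizer_iff.mp (hcent b.2) a a.2)⟩⟩
    exact Group.isSolvable_of_comm fun a b => mul_comm' a b
  have hq : IsQuasisimple δ.range := by
    haveI := hnt
    refine isQuasisimple_of_surjective (isQuasisimple_quotient_pPrimeCore hAc)
      ((QuotientGroup.lift (Cfsg.pPrimeCore 2 ↥A) δ hkerδ).codRestrict δ.range ?_) ?_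
    · intro x
      induction x using QuotientGroup.induction_on with
      | H j => exact ⟨j, rfl⟩
    · rintro ⟨_, j, rfl⟩
      exact ⟨QuotientGroup.mk j, rfl⟩
  -- the subgroup `D` of `C(f) ∩ C(z)`
  set N := cen f ⊓ C with hN
  set ι : N →* C := Subgroup.inclusion inf_le_right with hι
  have hιf : ∀ x : N, fh * ι x * fh = ι x := fun x => Subtype.ext (by
    show f * (x : G) * f = (x : G)
    rw [(mem_cen.mp x.2.1).symm.eq, mul_assoc, hff, mul_one])
  set M := A ⊔ B with hM
  have hBA : B ≤ Subgroup.normalizer (A : Set C) := pComponent_le_normalizer hAc hBc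
  have hAB' : A ≤ Subgroup.normalizer (B : Set C) := pComponent_le_normalizer hBc hAc
  have hMl : M ≤ Cfsg.pLayer 2 ↥C :=
    sup_le (pComponent_le_pLayer hAc) (pComponent_le_pLayer hBc)
  have hMsub : M.IsSubnormal := by
    refine Subgroup.IsSubnormal.step _ _ hMl (pLayer_normal (p := 2) (G := ↥C)).isSubnormal ?_
    haveI := pComponent_subgroupOf_pLayer_normal hAc
    haveI := pComponent_subgroupOf_pLayer_normal hBc
    rw [hM, Subgroup.subgroupOf_sup (pComponent_le_pLayer hAc) (pComponent_le_pLayer hBc)]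
    infer_instance
  set D := M.comap ι ⊓ δ.range.comap (π.comp ι) with hD
  have hMmem : ∀ x ∈ M, ∃ u ∈ A, ∃ v ∈ B, u * v = x := by
    intro x hx
    have h1 : x ∈ ((A ⊔ B : Subgroup C) : Set C) := hx
    rw [Subgroup.coe_mul_of_right_le_normalizer_left A B hBA] at h1
    exact h1
  have hconj : ∀ x : N, ι x ∈ M → ∀ j : A,
      π (ι x) * δ j * (π (ι x))⁻¹ ∈ δ.range := by
    intro x hx j
    obtain ⟨u, hu, v, hv, huv⟩ := hMmem _ hx
    set U := π u with hU
    set V := π v with hV
    set U' := π (fh * u * fh) with hU'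
    set V' := π (fh * v * fh) with hV'
    have he : U * V = V' * U' := by
      have h1 : fh * (u * v) * fh = u * v := by rw [huv]; exact hιf x
      rw [hsmul] at h1
      have h2 := congrArg π h1
      rw [map_mul π (fh * u * fh) (fh * v * fh), map_mul π u v] at h2
      exact h2.symm.trans (hab _ (hsig' v hv) _ (hsig u hu)).eq.symm
    have hc1 : V'⁻¹ * U ∈ A.map π :=
      mul_mem (inv_mem (Subgroup.mem_map_of_mem π (hsig' v hv))) (Subgroup.mem_map_of_mem π hu)
    have hc2 : V'⁻¹ * U = U' * V⁻¹ := by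
      calc V'⁻¹ * U = V'⁻¹ * (U * V) * V⁻¹ := by group
        _ = U' * V⁻¹ := by rw [he]; group
    obtain ⟨c, hcA, hcV⟩ : ∃ c ∈ A.map π, V = c⁻¹ * U' :=
      ⟨_, hc1, by rw [hc2]; group⟩
    set P := π (j : C) with hP
    set Q := π (fh * (j : C) * fh) with hQ
    have hcomm : ∀ q ∈ B.map π, Commute c q := fun q hq =>
      (mem_centralizer_iff.mp (component_le_centralizer hAc.2.1 hBc.2.1 hπne hcA) q hq).symm
    have hUP : Commute V P := (hab _ j.2 v hv).symm
    have hUQ : Commute U Q := hab u hu _ (hsig _ j.2)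
    have key : U * V * (P * Q) * (U * V)⁻¹ = (U * P * U⁻¹) * (U' * Q * U'⁻¹) := by
      have hw : V * Q * V⁻¹ = U' * Q * U'⁻¹ := by
        have hm : U' * Q * U'⁻¹ ∈ B.map π :=
          mul_mem (mul_mem (Subgroup.mem_map_of_mem π (hsig u hu))
            (Subgroup.mem_map_of_mem π (hsig _ j.2)))
            (inv_mem (Subgroup.mem_map_of_mem π (hsig u hu)))
        calc V * Q * V⁻¹ = c⁻¹ * (U' * Q * U'⁻¹) * c := by rw [hcV]; group
          _ = U' * Q * U'⁻¹ := by rw [mul_assoc, ← (hcomm _ hm).eq, inv_mul_cancel_left]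
      have hw2 : Commute U (U' * Q * U'⁻¹) :=
        ((hab u hu _ (hsig u hu)).mul_right hUQ).mul_right (hab u hu _ (hsig u hu)).inv_right
      calc U * V * (P * Q) * (U * V)⁻¹ = U * (V * P) * Q * V⁻¹ * U⁻¹ := by group
        _ = U * (P * V) * Q * V⁻¹ * U⁻¹ := by rw [hUP.eq]
        _ = U * P * ((V * Q * V⁻¹) * U⁻¹) := by group
        _ = U * P * ((U' * Q * U'⁻¹) * U⁻¹) := by rw [hw]
        _ = U * P * (U⁻¹ * (U' * Q * U'⁻¹)) := by rw [hw2.inv_left.eq]
        _ = _ := by group
    refine ⟨⟨u * (j : C) * u⁻¹, mul_mem (mul_mem hu j.2) (inv_mem hu)⟩, ?_⟩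
    have e1 : fh * (u * (j : C) * u⁻¹) * fh =
        (fh * u * fh) * (fh * (j : C) * fh) * (fh * u * fh)⁻¹ := by
      rw [hsmul, hsmul]
      congr 1
      rw [mul_inv_rev, mul_inv_rev, hfhi, mul_assoc]
    show π (u * (j : C) * u⁻¹) * π (fh * (u * (j : C) * u⁻¹) * fh) =
      π (ι x) * (π (j : C) * π (fh * (j : C) * fh)) * (π (ι x))⁻¹
    rw [e1, ← huv, map_mul π u v, map_mul π (u * (j : C)), map_mul π u, map_inv,
      map_mul π (fh * u * fh * (fh * (j : C) * fh)),
      map_mul π (fh * u * fh) (fh * (j : C) * fh), map_inv]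
    exact key.symm
  have hDsub : D.IsSubnormal := by
    refine Subgroup.IsSubnormal.step _ _ inf_le_left (hMsub.comap ι) ⟨fun d hd x => ?_⟩
    rw [Subgroup.mem_subgroupOf] at hd ⊢
    have hx : ι (x : N) ∈ M := x.2
    obtain ⟨hd1, hd2⟩ := Subgroup.mem_inf.mp hd
    refine ⟨Subgroup.mul_mem _ (Subgroup.mul_mem _ x.2 hd1) (Subgroup.inv_mem _ x.2), ?_⟩
    obtain ⟨j, hj⟩ := hd2
    show π (ι ((x : N) * d * (x : N)⁻¹)) ∈ δ.range
    rw [map_mul, map_mul, map_mul, map_mul, map_inv, map_inv,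
      show π (ι (d : N)) = δ j from hj.symm]
    exact hconj _ hx j
  set g : D →* δ.range :=
    (π.comp (ι.comp D.subtype)).codRestrict δ.range (fun d => d.2.2) with hg
  have hodd : ∀ x : C, x ∈ O → Odd (orderOf x) := by
    intro x hx
    rcases Nat.even_or_odd (orderOf x) with h | h
    · exact absurd (h.two_dvd.trans (Subgroup.orderOf_dvd_natCard _ hx))
        ((Nat.prime_two).coprime_iff_not_dvd.mp Thompson.card_pPrimeCore_coprime.symm)
    · exact h
  have hgs : Function.Surjective g := by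
    rintro ⟨_, j, rfl⟩
    set x₀ : C := (j : C) * (fh * (j : C) * fh) with hx₀
    have hπx : π (fh * x₀ * fh) = π x₀ := by
      rw [hx₀, hsmul, hffc, map_mul, map_mul]
      exact (hab _ j.2 _ (hsig _ j.2)).eq.symm
    have hq : x₀⁻¹ * (fh * x₀ * fh) ∈ O := by
      rw [← QuotientGroup.eq_one_iff, ← QuotientGroup.mk'_apply, ← hπ, map_mul, map_inv, hπx,
        inv_mul_cancel]
    obtain ⟨m, hm⟩ := exists_fixed_of_odd hfh2 (hodd _ hq)
    set x := x₀ * (x₀⁻¹ * (fh * x₀ * fh)) ^ m with hx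
    have hxN : (x : G) ∈ N := by
      refine ⟨mem_cen.mpr ?_, x.2⟩
      have h1 : f * (x : G) * f = x := congrArg Subtype.val hm
      show (x : G) * f = f * x
      calc (x : G) * f = f * x * f * f := by rw [h1]
        _ = f * x := by rw [mul_assoc (f * x), hff, mul_one]
    have hxπ : π x = δ j := by
      have h1 : π (x₀⁻¹ * (fh * x₀ * fh)) = 1 := (QuotientGroup.eq_one_iff _).mpr hq
      rw [hx, map_mul π x₀, map_pow, h1, one_pow, mul_one]
      rw [hx₀, map_mul π (j : C), hδ]
    have hxM : x ∈ M := by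
      have h0 : x₀ ∈ M := mul_mem (mem_sup_left j.2) (mem_sup_right (hsig _ j.2))
      have h0' : fh * x₀ * fh ∈ M := by
        rw [hx₀, hsmul, hffc]
        exact mul_mem (mem_sup_right (hsig _ j.2)) (mem_sup_left j.2)
      exact mul_mem h0 (pow_mem (mul_mem (inv_mem h0) h0') _)
    refine ⟨⟨⟨x, hxN⟩, hxM, ⟨j, hxπ.symm⟩⟩, Subtype.ext ?_⟩
    exact hxπ
  have hker : (Nat.card g.ker).Coprime 2 := by
    refine Thompson.card_pPrimeCore_coprime.coprime_dvd_left (?_ : _ ∣ Nat.card O)
    have hinj : Function.Injective ⇑(ι.comp D.subtype) := fun x y e =>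
      D.subtype_injective (Subgroup.inclusion_injective (inf_le_right : N ≤ C) e)
    rw [Nat.card_congr (g.ker.equivMapOfInjective (ι.comp D.subtype) hinj).toEquiv]
    refine Subgroup.card_dvd_of_le ?_
    rintro _ ⟨d, hd, rfl⟩
    exact (QuotientGroup.eq_one_iff _).mp (congrArg Subtype.val hd : _)
  -- the element
  set ac : C := ⟨a, hJ.le ha⟩ with hac
  have hpC : (a * (f * a * f) : G) ∈ C := (ac * (fh * ac * fh)).2
  have hpN : (a * (f * a * f) : G) ∈ N := by
    refine ⟨mem_cen.mpr ?_, hpC⟩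
    show a * (f * a * f) * f = f * (a * (f * a * f))
    calc a * (f * a * f) * f = a * (f * a) * (f * f) := by group
      _ = (f * f) * (a * (f * a)) := by rw [hff, mul_one, one_mul]
      _ = f * ((f * a * f) * a) * 1 := by
          rw [mul_one]
          calc f * f * (a * (f * a)) = f * (f * a * f * a) := by group
            _ = f * (f * a * f * a) := rfl
      _ = f * (a * (f * a * f)) := by rw [mul_one, hc.eq]
  have hpD : (⟨_, hpN⟩ : N) ∈ D :=
    ⟨mul_mem (mem_sup_left (show ac ∈ A from ha)) (mem_sup_right (hsig ac ha)),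
      ⟨⟨ac, ha⟩, rfl⟩⟩
  obtain ⟨k, hk⟩ := ha2
  have hpk : (⟨_, hpN⟩ : N) ^ 2 ^ k = 1 := Subtype.ext (by
    show (a * (f * a * f)) ^ 2 ^ k = 1
    have h := conj_pow (i := 2 ^ k) (a := f) (b := a)
    rw [hfi, hk, mul_one, hff] at h
    rw [hc.mul_pow, hk, h, one_mul])
  exact ⟨_, mem_pLayer_of_mem_layerCover hpk (le_layerCover_of_isSubnormal hDsub hq g hgs hker hpD),
    rfl⟩

/-- The diagonal element lies in the `2`-layer of `C(f)`. -/
theorem mem_lay_diag {z : G} {J : Subgroup G} (hJ : IComp z J) {f : G} (hf : orderOf f = 2)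
    (hfz : Commute f z) (hmove : cj f J ≠ J) {a : G} (ha : a ∈ J) (ha2 : ∃ k, a ^ 2 ^ k = 1)
    (hc : Commute a (f * a * f)) : a * (f * a * f) ∈ lay f :=
  pLayerOf_inf_le (cen f) (mem_cen.mpr hfz.symm) hJ.ord
    (mem_pLayerOf_diag hJ hf hfz hmove ha ha2 hc)

end Cfsg.Agent.Intrinsic63
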