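import Cfsg.Agent.Intrinsic63.Swap

/-!
# A `2`-element of `K` of order at least four centralising `z(J)` normalises `J`
-/

set_option autoImplicit false
set_option linter.style.haveILetI false
set_option linter.unusedSectionVars false
set_option linter.unusedVariables false

namespace Cfsg.Agent.Intrinsic63

open Subgroup
open Cfsg.Agent.Components
open scoped commutatorElement

universe u

variable {G : Type u} [Group G] [Finite G]

/-- Conjugation preserves being a two-element. -/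
theorem two_pow_conj {x : G} (h : ∃ k, x ^ 2 ^ k = 1) (g : G) :
    ∃ k, (g * x * g⁻¹) ^ 2 ^ k = 1 := by
  obtain ⟨k, hk⟩ := h
  exact ⟨k, by rw [conj_pow, hk, mul_one, mul_inv_cancel]⟩

theorem zpowers_two {x : G} (h : ∃ k, x ^ 2 ^ k = 1) : IsPGroup 2 (Subgroup.zpowers x) := by
  obtain ⟨k, hk⟩ := h
  intro t
  refine ⟨k, Subtype.ext ?_⟩
  obtain ⟨i, hi⟩ := Subgroup.mem_zpowers_iff.mp t.2
  show (t : G) ^ 2 ^ k = 1
  rw [← hi, ← zpow_natCast, zpow_comm, zpow_natCast, hk, one_zpow]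

/-- Elements of distinct components commute modulo the core. -/
theorem bar_commute {z : G} {P Q : Subgroup G} (hP : IComp z P) (hQ : IComp z Q) (hne : P ≠ Q)
    {x y : ↥(cen z)} (hx : (x : G) ∈ P) (hy : (y : G) ∈ Q) : Commute (bar z x) (bar z y) := by
  have h := hP.commutator_mem_core hQ hne hx hy
  obtain ⟨w, hw, hwe⟩ := h
  rw [← commutatorElement_eq_one_iff_commute, ← map_commutatorElement, QuotientGroup.mk'_apply,
    QuotientGroup.eq_one_iff]
  have e : w = ⁅x, y⁆ := Subtype.ext hwe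
  exact e ▸ hw

theorem bar_z_ne_one {z : G} {J : Subgroup G} (hJ : IComp z J) :
    bar z ⟨z, hJ.le hJ.mem⟩ ≠ 1 := fun e => hJ.toL_z_ne_one (Subtype.ext e)

/-- A component on which `x * y` induces an inversion contains `x` or `y`. -/
theorem eq_or_eq_of_inverted {z : G} {P Q J : Subgroup G} (hP : IComp z P) (hQ : IComp z Q)
    (hJ : IComp z J) {x y d : G} (hx : x ∈ P) (hy : y ∈ Q) (hd : d ∈ J) (hdd : d * d = z)
    (hfd : x * y * d * (x * y)⁻¹ = d⁻¹) : J = P ∨ J = Q := by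
  by_contra hne
  push Not at hne
  set X : ↥(cen z) := ⟨x, hP.le hx⟩
  set Y : ↥(cen z) := ⟨y, hQ.le hy⟩
  set D : ↥(cen z) := ⟨d, hJ.le hd⟩
  have h1 : Commute (bar z X) (bar z D) := (bar_commute hJ hP hne.1 hd hx).symm
  have h2 : Commute (bar z Y) (bar z D) := (bar_commute hJ hQ hne.2 hd hy).symm
  have h3 : bar z (X * Y * D * (X * Y)⁻¹) = bar z D⁻¹ := congrArg _ (Subtype.ext hfd)
  rw [map_mul, map_mul, map_inv, map_mul, map_inv, (h1.mul_left h2).eq, mul_inv_cancel_right,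
    eq_inv_iff_mul_eq_one, ← map_mul] at h3
  exact bar_z_ne_one hJ (by rw [← h3]; exact congrArg _ (Subtype.ext hdd.symm))

theorem conj_mem_lay {f x : G} (hx : x ∈ lay f) (g : G) : g * x * g⁻¹ ∈ lay (g * f * g⁻¹) := by
  obtain ⟨c, hc, rfl⟩ := hx
  have hCe : (cen f).map (MulAut.conj g).toMonoidHom = cen (g * f * g⁻¹) :=
    map_conj_centralizer_singleton g f
  set e := ((cen f).equivMapOfInjective (MulAut.conj g).toMonoidHom
    (MulAut.conj g).injective).trans (MulEquiv.subgroupCongr hCe) with he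
  exact ⟨e c, (map_pLayer_equiv e).le ⟨c, hc, rfl⟩, rfl⟩

theorem IComp.exists_sylow_eq {z : G} {J R : Subgroup G} (h : IComp z J) (hR : IsSyl z R) :
    ∃ P : Sylow 2 ↥J, (P : Subgroup ↥J).map J.subtype = R ⊓ J := by
  haveI : Fact (Nat.Prime 2) := ⟨Nat.prime_two⟩
  obtain ⟨S, rfl⟩ := hR
  have hsyl := S2925.isSylowIn_inf_of_isSubnormal S h.comp.2.1
  obtain ⟨P, hP⟩ := hsyl.exists_sylow
  set e := Subgroup.subgroupOfEquivOfLe h.le
  refine ⟨P.mapSurjective (f := e.toMonoidHom) e.surjective, ?_⟩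
  have hmap : ((S : Subgroup ↥(cen z)) ⊓ J.subgroupOf (cen z)).map (cen z).subtype =
      (S : Subgroup ↥(cen z)).map (cen z).subtype ⊓ J := by
    rw [Subgroup.map_inf _ _ _ (cen z).subtype_injective, map_subgroupOf_eq_of_le h.le]
  rw [← hmap, ← hP, Subgroup.map_map]
  show ((P : Subgroup ↥(J.subgroupOf (cen z))).map e.toMonoidHom).map J.subtype = _
  rw [Subgroup.map_map]
  rfl

theorem toL_injOn {z : G} {K R : Subgroup G} (h : IComp z K) (hR : IsPGroup 2 R) {x y : ↥K}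
    (hx : (x : G) ∈ R) (hy : (y : G) ∈ R) (e : toL h x = toL h y) : x = y := by
  haveI : Fact (Nat.Prime 2) := ⟨Nat.prime_two⟩
  have h1 : toL h (x⁻¹ * y) = 1 := by rw [map_mul, map_inv, e, inv_mul_cancel]
  have h2 := Subgroup.orderOf_dvd_natCard _ (h.toL_eq_one.mp h1)
  obtain ⟨k, hk⟩ := two_pow_of_mem hR (R.mul_mem (R.inv_mem hx) hy : ((x⁻¹ * y : ↥K) : G) ∈ R)
  have h3 : orderOf (x⁻¹ * y) ∣ 2 ^ k := orderOf_dvd_of_pow_eq_one (Subtype.ext (by simpa using hk))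
  exact inv_mul_eq_one.mp (orderOf_eq_one_iff.mp (Nat.eq_one_of_dvd_coprimes
    (Thompson.card_pPrimeCore_coprime.pow_right k) h2 h3))

/-- An element of order four is inverted by a conjugate of itself modulo the core. -/
theorem exists_conj_inverter {z : G} {K S : Subgroup G} (h : IComp z K) (hS : IsSyl z S) {y : G}
    (hy : y ∈ S ⊓ K) (hyy : y * y = z) :
    ∃ c, ∃ hc : c ∈ S ⊓ K, c * c = z ∧ c * y * c⁻¹ = y⁻¹ ∧
      ∃ g : ↥K, toL h ⟨c, hc.2⟩ = toL h (g * ⟨y, hy.2⟩ * g⁻¹) := by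
  haveI : Fact (Nat.Prime 2) := ⟨Nat.prime_two⟩
  have hu := h.uniqInv hS
  have hy4 := hu.order_four hyy
  set T := S ⊓ K with hT
  have hzy : z * y = y * z := hu.commute_z hy
  by_cases hall : ∀ t ∈ T, t * y * t⁻¹ = y ∨ t * y * t⁻¹ = y⁻¹
  · by_contra hnot
    push Not at hnot
    -- all conjugates in `T` are `y` or its inverse
    set zb := toL h ⟨z, h.mem⟩ with hzb
    set Z := Subgroup.zpowers zb with hZ
    have hzc : ∀ l : ↥(Lb z K), l * zb = zb * l := fun l => by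
      obtain ⟨x, rfl⟩ := h.toL_surjective l
      rw [hzb, ← map_mul, ← map_mul]
      exact congrArg _ (Subtype.ext (h.commute x.2).eq)
    haveI : Z.Normal := ⟨fun x hx g => by
      obtain ⟨i, rfl⟩ := Subgroup.mem_zpowers_iff.mp hx
      rw [(Commute.zpow_right (show Commute g zb from hzc g) i).eq, mul_inv_cancel_right]
      exact zpow_mem (Subgroup.mem_zpowers zb) i⟩
    have hzb2 : zb * zb = 1 := by
      rw [hzb, ← map_mul, show (⟨z, h.mem⟩ : ↥K) * ⟨z, h.mem⟩ = 1 from Subtype.ext h.sq_z, map_one]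
    have hmemZ : ∀ l ∈ Z, l = 1 ∨ l = zb := by
      intro l hl
      obtain ⟨i, rfl⟩ := Subgroup.mem_zpowers_iff.mp hl
      rcases Int.emod_two_eq i with hi | hi
      · left
        obtain ⟨j, rfl⟩ : ∃ j, i = 2 * j := ⟨i / 2, by omega⟩
        rw [zpow_mul, zpow_two, hzb2, one_zpow]
      · right
        obtain ⟨j, rfl⟩ : ∃ j, i = 2 * j + 1 := ⟨i / 2, by omega⟩
        rw [zpow_add, zpow_mul, zpow_two, hzb2, one_zpow, one_mul, zpow_one]
    set q := QuotientGroup.mk' Z with hq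
    set yl := toL h ⟨y, hy.2⟩ with hyl
    have hyl2 : yl * yl = zb := by
      rw [hyl, hzb, ← map_mul]
      exact congrArg _ (Subtype.ext hyy)
    have hq2 : q yl * q yl = 1 := by
      rw [← map_mul, hyl2]
      exact (QuotientGroup.eq_one_iff zb).mpr (Subgroup.mem_zpowers zb)
    have hq1 : q yl ≠ 1 := by
      intro e
      apply h.toL_z_ne_one
      rw [← hzb, ← hyl2]
      rcases hmemZ yl ((QuotientGroup.eq_one_iff yl).mp e) with e1 | e1
      · rw [e1, one_mul]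
      · rw [e1, hzb2]
    obtain ⟨P, hP⟩ := h.exists_sylow_eq hS
    let f : ↥K →* ↥(Lb z K) ⧸ Z := q.comp (toL h)
    have hf : Function.Surjective f := (QuotientGroup.mk'_surjective Z).comp h.toL_surjective
    let PH : Sylow 2 (↥(Lb z K) ⧸ Z) := P.mapSurjective hf
    have hord : orderOf (q yl) = 2 := orderOf_eq_prime (by rw [pow_two, hq2]) hq1
    have hyP : q yl ∈ PH := by
      refine ⟨⟨y, hy.2⟩, ?_, rfl⟩
      obtain ⟨p, hp, hpe⟩ := hP.ge hy
      rwa [show (⟨y, hy.2⟩ : ↥K) = p from Subtype.ext hpe.symm]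
    obtain ⟨N, hNn, hNodd, hN⟩ := zStarProperty.{u} _ PH (q yl) hord hyP (by
      intro g hg
      obtain ⟨g0, rfl⟩ := hf g
      obtain ⟨t, ht, hte⟩ := hg
      have htT : (t : G) ∈ T := hP.le ⟨t, ht, rfl⟩
      have hcoset : (toL h (g0 * ⟨y, hy.2⟩ * g0⁻¹))⁻¹ * toL h t ∈ Z := by
        rw [← QuotientGroup.eq_one_iff, ← QuotientGroup.mk'_apply, ← hq, map_mul, map_inv,
          inv_mul_eq_one]
        simp only [map_mul, map_inv]
        exact hte.symm
      obtain ⟨t', ht', hte'⟩ : ∃ t' : ↥K, (t' : G) ∈ T ∧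
          toL h t' = toL h (g0 * ⟨y, hy.2⟩ * g0⁻¹) := by
        rcases hmemZ _ hcoset with e | e
        · exact ⟨t, htT, (inv_mul_eq_one.mp e).symm⟩
        · refine ⟨t * ⟨z, h.mem⟩, T.mul_mem htT hu.mem, ?_⟩
          rw [map_mul, ← hzb, inv_mul_eq_iff_eq_mul.mp e, mul_assoc, hzb2, mul_one]
      have ht2 : t' * t' = ⟨z, h.mem⟩ := by
        refine toL_injOn h hS.two (S.mul_mem ht'.1 ht'.1) hu.mem.1 ?_
        have e2 : toL h ((g0 * ⟨y, hy.2⟩ * g0⁻¹) * (g0 * ⟨y, hy.2⟩ * g0⁻¹)) = zb := by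
          rw [show g0 * ⟨y, hy.2⟩ * g0⁻¹ * (g0 * ⟨y, hy.2⟩ * g0⁻¹) =
            g0 * (⟨y, hy.2⟩ * ⟨y, hy.2⟩) * g0⁻¹ by group, map_mul, map_mul, map_inv, map_mul,
            ← hyl, hyl2, hzc, mul_inv_cancel_right]
        rw [map_mul, hte', ← map_mul]
        exact e2
      have ht2' : (t' : G) * t' = z := congrArg Subtype.val ht2
      have hft' : f t' = q yl := by
        rcases hall t' ht' with e | e
        · rcases hu.eq_or_eq_inv hy ht' hy4 (hu.order_four ht2')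
            (mul_inv_eq_iff_eq_mul.mp e).symm with e1 | e1
          · exact congrArg f (Subtype.ext e1 : t' = ⟨y, hy.2⟩)
          · rw [show t' = (⟨y, hy.2⟩ : ↥K)⁻¹ from Subtype.ext e1, map_inv]
            exact inv_eq_of_mul_eq_one_right hq2
        · exact absurd hte' (hnot t' ht' ht2' e g0)
      calc f g0 * q yl * (f g0)⁻¹ = f (g0 * ⟨y, hy.2⟩ * g0⁻¹) := by
            rw [map_mul, map_mul, map_inv]; rfl
        _ = q (toL h t') := by rw [hte']; rfl
        _ = q yl := hft')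
    haveI := hNn
    rcases normal_eq_top_or_le_center h.isQuasisimple_Lb (N.comap q) with e | e
    · have e1 : N = ⊤ := by
        rw [← Subgroup.map_comap_eq_self_of_surjective (QuotientGroup.mk'_surjective Z) N, ← hq, e,
          Subgroup.map_top_of_surjective q (QuotientGroup.mk'_surjective Z)]
      have h2 := Subgroup.orderOf_dvd_natCard N (e1.ge (Subgroup.mem_top (q yl)))
      rw [hord] at h2
      exact hNodd.not_two_dvd_nat h2
    · have hall2 : ∀ x, MulAut.conj x ∈ innCen (MulAut.conj yl) := fun x => by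
        rw [mem_innCen_iff]
        refine e ?_
        rw [Subgroup.mem_comap, MulAut.conj_apply, map_mul, map_mul, map_mul, map_inv, map_inv]
        exact hN (q x)
      have hne : MulAut.conj yl ≠ 1 := by
        intro e1
        obtain ⟨r, hr, -, hry⟩ := hu.exists_inverter hy hy4
        have h1 := DFunLike.congr_fun e1 (toL h ⟨r, hr.2⟩)
        rw [MulAut.conj_apply, MulAut.one_apply, mul_inv_eq_iff_eq_mul] at h1
        have h2 : toL h ⟨r, hr.2⟩ * yl * (toL h ⟨r, hr.2⟩)⁻¹ = yl⁻¹ := by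
          rw [hyl, ← map_inv, ← map_inv, ← map_mul, ← map_mul]
          exact congrArg _ (Subtype.ext hry)
        rw [← h1, mul_inv_cancel_right, eq_inv_iff_mul_eq_one, hyl2] at h2
        exact h.toL_z_ne_one h2
      refine absurd (card_innCen_lt h.commutator_Lb hne) (not_lt.mpr ?_)
      refine Subgroup.card_le_of_le ?_
      rintro _ ⟨x, rfl⟩
      exact hall2 x
  · push Not at hall
    obtain ⟨t0, ht0, ht0a, ht0b⟩ := hall
    let N : Subgroup ↥T :=
      { carrier := {t | (t : G) * y * (t : G)⁻¹ = y ∨ (t : G) * y * (t : G)⁻¹ = y⁻¹}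
        one_mem' := Or.inl (by simp)
        mul_mem' := fun {a b} ha hb => by
          show (a : G) * b * y * ((a : G) * b)⁻¹ = y ∨ (a : G) * b * y * ((a : G) * b)⁻¹ = y⁻¹
          rw [show (a : G) * b * y * ((a : G) * b)⁻¹ = a * ((b : G) * y * (b : G)⁻¹) * (a : G)⁻¹ by
            group]
          rcases hb with e | e <;> rw [e]
          · exact ha
          · rcases ha with e1 | e1
            · right
              calc (a : G) * y⁻¹ * (a : G)⁻¹ = ((a : G) * y * (a : G)⁻¹)⁻¹ := by group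
                _ = y⁻¹ := by rw [e1]
            · left
              calc (a : G) * y⁻¹ * (a : G)⁻¹ = ((a : G) * y * (a : G)⁻¹)⁻¹ := by group
                _ = y := by rw [e1, inv_inv]
        inv_mem' := fun {a} ha => by
          show (a : G)⁻¹ * y * (a : G)⁻¹⁻¹ = y ∨ (a : G)⁻¹ * y * (a : G)⁻¹⁻¹ = y⁻¹
          rcases ha with e | e
          · left
            calc (a : G)⁻¹ * y * (a : G)⁻¹⁻¹ =
                  (a : G)⁻¹ * ((a : G) * y * (a : G)⁻¹) * (a : G)⁻¹⁻¹ := by rw [e]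
              _ = y := by group
          · right
            calc (a : G)⁻¹ * y * (a : G)⁻¹⁻¹ = ((a : G)⁻¹ * y⁻¹ * (a : G))⁻¹ := by group
              _ = ((a : G)⁻¹ * ((a : G) * y * (a : G)⁻¹) * (a : G))⁻¹ := by rw [e]
              _ = y⁻¹ := by group }
    have hNtop : N < ⊤ := lt_top_iff_ne_top.mpr fun e => by
      rcases (e.ge (Subgroup.mem_top (⟨t0, ht0⟩ : ↥T)) : _ ∨ _) with e1 | e1
      · exact ht0a e1
      · exact ht0b e1
    haveI := hu.two.isNilpotent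
    obtain ⟨s, hs, hsN⟩ := SetLike.exists_of_lt (Group.normalizerCondition_of_isNilpotent (G := ↥T) N hNtop)
    have hyN : (⟨y, hy⟩ : ↥T) ∈ N := Or.inl (by simp)
    have hrN := (Subgroup.mem_normalizer_iff.mp hs ⟨y, hy⟩).mp hyN
    set r := (s : G) * y * (s : G)⁻¹ with hr
    have hrr : r * r = z := by
      rw [hr, show (s : G) * y * (s : G)⁻¹ * (s * y * (s : G)⁻¹) = s * (y * y) * (s : G)⁻¹ by group,
        hyy, ← (hu.commute_z s.2).eq, mul_inv_cancel_right]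
    refine ⟨r, T.mul_mem (T.mul_mem s.2 hy) (T.inv_mem s.2), hrr, ?_, ⟨s, s.2.2⟩, rfl⟩
    rcases (hrN : r * y * r⁻¹ = y ∨ r * y * r⁻¹ = y⁻¹) with e | e
    · exfalso
      rcases hu.eq_or_eq_inv hy (T.mul_mem (T.mul_mem s.2 hy) (T.inv_mem s.2)) hy4
        (hu.order_four hrr) (mul_inv_eq_iff_eq_mul.mp e).symm with e1 | e1
      · exact hsN (Or.inl e1)
      · exact hsN (Or.inr e1)
    · exact e

/-- The situation after the reduction to order four. -/
structure Pair (zJ zK y e : G) (J K : Subgroup G) : Prop where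
  hJ : IComp zJ J
  hK : IComp zK K
  hzne : zJ ≠ zK
  hzN : zK ∈ Subgroup.normalizer (J : Set G)
  hy : y ∈ K
  hyy : y * y = zK
  hyz : Commute y zJ
  hmove : cj y J ≠ J
  hez : Commute e zJ
  het : Commute e zK
  hy2 : zJ * y ∈ cj e K
  hne : cj e K ≠ K

namespace Pair

variable {zJ zK y e : G} {J K : Subgroup G} (h : Pair zJ zK y e J K)
include h

theorem zc : Commute zK zJ := by
  rw [← h.hyy]
  exact h.hyz.mul_left h.hyz

theorem hK' : IComp zK (cj e K) := h.hK.conj_of_commute h.het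

theorem conj_z {c : G} (hc : c * y * c⁻¹ = y⁻¹) (hc2 : Commute c (zJ * y)) :
    c * zJ * c⁻¹ = zK * zJ := by
  calc c * zJ * c⁻¹ = c * (zJ * y) * c⁻¹ * (c * y * c⁻¹)⁻¹ := by group
    _ = zJ * (y * y) := by rw [hc, hc2.eq]; group
    _ = zK * zJ := by rw [h.hyy, h.zc.eq]

theorem z_inverts {c : G} (hcc : c * c = zK) (hc : c * y * c⁻¹ = y⁻¹)
    (hc2 : Commute c (zJ * y)) : zJ * c * zJ⁻¹ = c⁻¹ := by
  calc zJ * c * zJ⁻¹ = zJ * (c * zJ⁻¹ * c⁻¹) * c := by group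
    _ = zJ * (c * zJ * c⁻¹)⁻¹ * c := by group
    _ = zJ * (zJ * zK) * c := by rw [h.conj_z hc hc2, mul_inv_rev, h.hJ.inv_z, h.hK.inv_z]
    _ = zK * c := by rw [← mul_assoc, h.hJ.sq_z, one_mul]
    _ = c⁻¹ := eq_inv_of_mul_eq_one_left (by rw [mul_assoc, hcc, h.hK.sq_z])

/-- An element centralising both involutions permutes the two components of `C(z(K))`. -/
theorem cj_mem {S : Subgroup G} (hS : IsSyl zK S) (hyS : y ∈ S) (hzS : zJ ∈ S) {o : G}
    (hoz : Commute o zJ) (hot : Commute o zK) : cj o K = cj e K ∨ cj o K = K := by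
  have hu := h.hK.uniqInv hS
  obtain ⟨c, hc, hc4, hcy⟩ := hu.exists_inverter ⟨hyS, h.hy⟩ (hu.order_four h.hyy)
  have hcc := hu.sq_eq hc hc4
  have hc2 : Commute c (zJ * y) :=
    h.hK.commute_of_two h.hK' h.hne.symm hS.two hc.2 h.hy2 hc.1 (S.mul_mem hzS hyS)
  have hinv := h.z_inverts hcc hcy hc2
  refine eq_or_eq_of_inverted h.hK' h.hK (h.hK.conj_of_commute hot) h.hy2 (K.inv_mem h.hy)
    (conj_mem_cj hc.2) ?_ ?_
  · calc o * c * o⁻¹ * (o * c * o⁻¹) = o * (c * c) * o⁻¹ := by group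
      _ = zK := by rw [hcc, hot.eq, mul_inv_cancel_right]
  · calc zJ * y * y⁻¹ * (o * c * o⁻¹) * (zJ * y * y⁻¹)⁻¹ = zJ * o * c * o⁻¹ * zJ⁻¹ := by group
      _ = (zJ * o) * c * (o⁻¹ * zJ⁻¹) := by group
      _ = (o * zJ) * c * (zJ⁻¹ * o⁻¹) := by rw [hoz.eq, hoz.inv_inv.eq]
      _ = o * (zJ * c * zJ⁻¹) * o⁻¹ := by group
      _ = (o * c * o⁻¹)⁻¹ := by rw [hinv]; group

/-- Some element of order four of `J` centralises `z(K)` and exchanges the components. -/
theorem exists_swap {R : Subgroup G} (hR : IsSyl zJ R) (hyR : y ∈ R) {d : G} (hd : d ∈ R ⊓ J)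
    (hdd : d * d = zJ) (hdi : zK * d * zK⁻¹ = d⁻¹) :
    ∃ (a : G) (P : Subgroup G), IsPGroup 2 P ∧ P ≤ cen zJ ⊓ cen zK ∧ y ∈ P ∧ zJ ∈ P ∧ a ∈ P ∧
      a ∈ J ∧ a * a = zJ ∧ cj a K = cj e K := by
  haveI : Fact (Nat.Prime 2) := ⟨Nat.prime_two⟩
  have huJ := h.hJ.uniqInv hR
  have hzc := h.zc
  obtain ⟨S, hS, hPS⟩ := exists_isSyl (z := zK) (P := R ⊓ cen zK) (hR.two.to_le inf_le_left)
    inf_le_right
  have hyS : y ∈ S := hPS ⟨hyR, h.hK.le h.hy⟩
  have hzS : zJ ∈ S := hPS ⟨huJ.mem.1, mem_cen.mpr hzc.symm⟩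
  have hu := h.hK.uniqInv hS
  obtain ⟨c, hc, hc4, hcy⟩ := hu.exists_inverter ⟨hyS, h.hy⟩ (hu.order_four h.hyy)
  have hcc := hu.sq_eq hc hc4
  have hc2 : Commute c (zJ * y) :=
    h.hK.commute_of_two h.hK' h.hne.symm hS.two hc.2 h.hy2 hc.1 (S.mul_mem hzS hyS)
  have hcz := h.conj_z hcy hc2
  have hdt : d * zK * d⁻¹ = zJ * zK := by
    calc d * zK * d⁻¹ = d * zK * (zK * d * zK⁻¹) := by rw [hdi]
      _ = d * (zK * zK) * d * zK⁻¹ := by group
      _ = zJ * zK := by rw [h.hK.sq_z, mul_one, hdd, h.hK.inv_z]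
  have hdz : d * zJ * d⁻¹ = zJ := by rw [(h.hJ.commute hd.2).eq, mul_inv_cancel_right]
  have hct : c * zK * c⁻¹ = zK := by rw [(h.hK.commute hc.2).eq, mul_inv_cancel_right]
  set g := d * c * d with hg
  have hg1 : g * zK * g⁻¹ = zJ := by
    calc g * zK * g⁻¹ = d * (c * (d * zK * d⁻¹) * c⁻¹) * d⁻¹ := by rw [hg]; group
      _ = d * ((c * zJ * c⁻¹) * (c * zK * c⁻¹)) * d⁻¹ := by rw [hdt]; group
      _ = d * zJ * d⁻¹ := by rw [hcz, hct, hzc.eq, mul_assoc zJ, h.hK.sq_z, mul_one]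
      _ = zJ := hdz
  have hg2 : g * zJ * g⁻¹ = zK := by
    calc g * zJ * g⁻¹ = d * (c * (d * zJ * d⁻¹) * c⁻¹) * d⁻¹ := by rw [hg]; group
      _ = d * (zK * zJ) * d⁻¹ := by rw [hdz, hcz]
      _ = (d * zK * d⁻¹) * (d * zJ * d⁻¹) := by group
      _ = zK := by rw [hdt, hdz, mul_assoc, hzc.eq, ← mul_assoc, h.hJ.sq_z, one_mul]
  have hP0 : IComp zJ (cj g K) := by
    have := h.hK.map_conj g; rwa [hg1] at this
  have hQ0 : IComp zJ (cj g (cj e K)) := by
    have := h.hK'.map_conj g; rwa [hg1] at this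
  have hprod : g * (zJ * y) * g⁻¹ * (g * y⁻¹ * g⁻¹) = zK := by
    calc g * (zJ * y) * g⁻¹ * (g * y⁻¹ * g⁻¹) = g * zJ * g⁻¹ := by group
      _ = zK := hg2
  -- components of `C(z(J))` on which `z(K)` acts nontrivially
  have hJmem : ∀ n : G, Commute n zJ → Commute n zK →
      cj n J = cj g (cj e K) ∨ cj n J = cj g K := fun n hnz hnt => by
    refine eq_or_eq_of_inverted hQ0 hP0 (h.hJ.conj_of_commute hnz) (conj_mem_cj h.hy2)
      (conj_mem_cj (K.inv_mem h.hy)) (conj_mem_cj hd.2) ?_ ?_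
    · calc n * d * n⁻¹ * (n * d * n⁻¹) = n * (d * d) * n⁻¹ := by group
        _ = zJ := by rw [hdd, hnz.eq, mul_inv_cancel_right]
    · rw [hprod]
      calc zK * (n * d * n⁻¹) * zK⁻¹ = (zK * n) * d * (zK * n)⁻¹ := by group
        _ = n * (zK * d * zK⁻¹) * n⁻¹ := by rw [← hnt.eq]; group
        _ = (n * d * n⁻¹)⁻¹ := by rw [hdi]; group
  have hJ1 := hJmem 1 (Commute.one_left _) (Commute.one_left _)
  rw [cj_one] at hJ1
  have hJy := hJmem y h.hyz (h.hK.commute h.hy)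
  have hyN : y ∉ Subgroup.normalizer (J : Set G) := fun e' => h.hmove (cj_eq_self.mpr e')
  -- both of them are `J` or its image
  have hpair : ∀ P, P = cj g (cj e K) ∨ P = cj g K → P = J ∨ P = cj y J := by
    intro P hP
    rcases hJ1 with e1 | e1 <;> rcases hJy with e2 | e2
    · exact absurd (e2.trans e1.symm) h.hmove
    · rcases hP with rfl | rfl
      · exact Or.inl e1.symm
      · exact Or.inr e2.symm
    · rcases hP with rfl | rfl
      · exact Or.inr e2.symm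
      · exact Or.inl e1.symm
    · exact absurd (e2.trans e1.symm) h.hmove
  obtain ⟨A, hA, hAJ⟩ : ∃ A, (A = g * y * g⁻¹ ∨ A = g * (zJ * y) * g⁻¹) ∧ A ∈ J := by
    rcases hJ1 with e1 | e1
    · exact ⟨_, Or.inr rfl, e1.symm ▸ conj_mem_cj h.hy2⟩
    · exact ⟨_, Or.inl rfl, e1.symm ▸ conj_mem_cj h.hy⟩
  have hcyz : Commute (zJ * y) zJ := (Commute.refl zJ).mul_left h.hyz
  have hAz : Commute A zK := by
    have hh : ∀ v, Commute v zJ → Commute (g * v * g⁻¹) zK := fun v hv => by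
      rw [← hg2]
      exact Commute.map hv (MulAut.conj g).toMonoidHom
    rcases hA with rfl | rfl
    · exact hh y h.hyz
    · exact hh _ hcyz
  have hAA : A * A = zJ := by
    rcases hA with rfl | rfl
    · calc g * y * g⁻¹ * (g * y * g⁻¹) = g * (y * y) * g⁻¹ := by group
        _ = zJ := by rw [h.hyy, hg1]
    · calc g * (zJ * y) * g⁻¹ * (g * (zJ * y) * g⁻¹) = g * ((zJ * y) * (zJ * y)) * g⁻¹ := by group
        _ = zJ := by
            rw [h.hyz.mul_mul_mul_comm, h.hJ.sq_z, one_mul, h.hyy, hg1]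
  have hAzJ : Commute A zJ := h.hJ.commute hAJ
  have hAmove : cj A K ≠ K := by
    intro e0
    set x := g * (zJ * y) * g⁻¹ with hx
    set x' := g * y⁻¹ * g⁻¹ with hx'
    have hQ1 : IComp zK (cj g (cj g (cj e K))) := by
      have := hQ0.map_conj g; rwa [hg2] at this
    have hP1 : IComp zK (cj g (cj g K)) := by
      have := hP0.map_conj g; rwa [hg2] at this
    have hK0 := eq_or_eq_of_inverted hQ1 hP1 h.hK (conj_mem_cj (g := g) (conj_mem_cj (g := g) h.hy2))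
      (conj_mem_cj (g := g) (conj_mem_cj (g := g) (K.inv_mem h.hy))) hc.2 hcc (by
      rw [show g * (g * (zJ * y) * g⁻¹) * g⁻¹ * (g * (g * y⁻¹ * g⁻¹) * g⁻¹) =
        g * (g * (zJ * y) * g⁻¹ * (g * y⁻¹ * g⁻¹)) * g⁻¹ by group, hprod, hg1]
      exact h.z_inverts hcc hcy hc2)
    obtain ⟨P, hP, hKP⟩ : ∃ P, (P = cj g (cj e K) ∨ P = cj g K) ∧ K = cj g P := by
      rcases hK0 with e1 | e1
      · exact ⟨_, Or.inl rfl, e1⟩
      · exact ⟨_, Or.inr rfl, e1⟩
    have h1 : g⁻¹ * A * g ∈ Subgroup.normalizer (P : Set G) := by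
      rw [← cj_eq_self]
      have h2 : cj A (cj g P) = cj g P := by rw [← hKP]; exact e0
      calc cj (g⁻¹ * A * g) P = cj g⁻¹ (cj A (cj g P)) := by rw [cj_cj, cj_cj, mul_assoc]
        _ = P := by rw [h2, cj_cj, inv_mul_cancel, cj_one]
    have hPc : P = J ∨ P = cj y J := hpair P hP
    have hzP : zJ ∈ Subgroup.normalizer (P : Set G) := by
      rcases hPc with rfl | rfl
      · exact Subgroup.le_normalizer h.hJ.mem
      · exact Subgroup.le_normalizer (h.hJ.conj_of_commute h.hyz).mem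
    have h3 : y ∈ Subgroup.normalizer (P : Set G) := by
      rcases hA with rfl | rfl
      · rwa [show g⁻¹ * (g * y * g⁻¹) * g = y by group] at h1
      · rw [show g⁻¹ * (g * (zJ * y) * g⁻¹) * g = zJ * y by group] at h1
        simpa using mul_mem (inv_mem hzP) h1
    rcases hPc with rfl | rfl
    · exact hyN h3
    · refine h.hmove (Subgroup.map_injective (f := (MulAut.conj y).toMonoidHom) (MulAut.conj y).injective ?_)
      exact cj_eq_self.mpr h3
  have hAK : cj A K = cj e K := (h.cj_mem hS hyS hzS hAzJ hAz).resolve_right hAmove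
  -- move into a common two-group
  set N := cen zJ ⊓ cen zK with hN
  have hyN' : y ∈ N := ⟨mem_cen.mpr h.hyz, h.hK.le h.hy⟩
  have hA2 : ∃ k, A ^ 2 ^ k = 1 := ⟨2, by
    rw [show 2 ^ 2 = 2 + 2 from rfl, pow_add, pow_two, hAA, h.hJ.sq_z]⟩
  have hy2' : ∃ k, y ^ 2 ^ k = 1 := two_pow_of_mem hR.two hyR
  have hp : IsPGroup 2 (Subgroup.zpowers y ⊔ Subgroup.zpowers zJ : Subgroup G) := by
    refine (hR.two).to_le (sup_le ?_ ?_)
    · exact Subgroup.zpowers_le.mpr hyR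
    · exact Subgroup.zpowers_le.mpr huJ.mem.1
  have hple : (Subgroup.zpowers y ⊔ Subgroup.zpowers zJ : Subgroup G) ≤ N :=
    sup_le (Subgroup.zpowers_le.mpr hyN')
      (Subgroup.zpowers_le.mpr ⟨mem_cen.mpr (Commute.refl zJ), mem_cen.mpr hzc.symm⟩)
  obtain ⟨S1, hS1⟩ := (hp.comap_subtype (K := N)).exists_le_sylow
  obtain ⟨S2, hS2⟩ := ((zpowers_two hA2).comap_subtype (K := N)).exists_le_sylow
  obtain ⟨n, hn⟩ := MulAction.exists_smul_eq N S2 S1
  have hAn : n * (⟨A, mem_cen.mpr hAzJ, mem_cen.mpr hAz⟩ : ↥N) * n⁻¹ ∈ S1 := by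
    rw [← hn]
    exact Subgroup.smul_mem_pointwise_smul _ (MulAut.conj n) _ (hS2 (Subgroup.mem_zpowers A))
  set P := (S1 : Subgroup ↥N).map N.subtype with hP
  have hyP : y ∈ P := ⟨⟨y, hyN'⟩, hS1 (Subgroup.mem_sup_left (Subgroup.mem_zpowers y)), rfl⟩
  have hzP : zJ ∈ P := ⟨⟨zJ, hple (Subgroup.mem_sup_right (Subgroup.mem_zpowers zJ))⟩,
    hS1 (Subgroup.mem_sup_right (Subgroup.mem_zpowers zJ)), rfl⟩
  have hnA : (n : G) * A * (n : G)⁻¹ ∈ P := ⟨_, hAn, rfl⟩
  obtain ⟨m, hmN, hmP, hmJ⟩ : ∃ m, m ∈ N ∧ m * A * m⁻¹ ∈ P ∧ m * A * m⁻¹ ∈ J := by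
    rcases hpair _ (hJmem n (mem_cen.mp n.2.1) (mem_cen.mp n.2.2)) with e1 | e1
    · exact ⟨n, n.2, hnA, e1.le (conj_mem_cj hAJ)⟩
    · refine ⟨y * n, N.mul_mem hyN' n.2, ?_, ?_⟩
      · rw [show y * n * A * (y * (n : G))⁻¹ = y * ((n : G) * A * (n : G)⁻¹) * y⁻¹ by group]
        exact P.mul_mem (P.mul_mem hyP hnA) (P.inv_mem hyP)
      · have h1 : cj (y * (n : G)) J = J := by
          rw [← cj_cj, e1, cj_cj, h.hyy, cj_eq_self]
          exact h.hzN
        exact h1.le (conj_mem_cj hAJ)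
  have hm1 : Commute m zJ := mem_cen.mp hmN.1
  have hm2 : Commute m zK := mem_cen.mp hmN.2
  refine ⟨m * A * m⁻¹, P, S1.2.map _, Subgroup.map_subtype_le _, hyP, hzP, hmP, hmJ, ?_, ?_⟩
  · calc m * A * m⁻¹ * (m * A * m⁻¹) = m * (A * A) * m⁻¹ := by group
      _ = zJ := by rw [hAA, hm1.eq, mul_inv_cancel_right]
  · have hPle : P ≤ N := Subgroup.map_subtype_le _
    refine (h.cj_mem hS hyS hzS (mem_cen.mp (hPle hmP).1)
      (mem_cen.mp (hPle hmP).2)).resolve_right fun e1 => ?_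
    have h1 : cj A (cj m⁻¹ K) = cj m⁻¹ K := by
      have h2 := congrArg (cj m⁻¹) e1
      rw [cj_cj] at h2 ⊢
      rwa [show m⁻¹ * (m * A * m⁻¹) = A * m⁻¹ by group] at h2
    rcases h.cj_mem hS hyS hzS hm1.inv_left hm2.inv_left with e2 | e2
    · rw [e2] at h1
      exact h.hne (Subgroup.map_injective (MulAut.conj A).injective (h1.trans hAK.symm))
    · rw [e2] at h1
      exact hAmove h1

/-- The final contradiction. -/
theorem false_of_swap {a : G} {P : Subgroup G} (hP : IsPGroup 2 P) (hPle : P ≤ cen zJ ⊓ cen zK)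
    (hyP : y ∈ P) (hzP : zJ ∈ P) (haP : a ∈ P) (haJ : a ∈ J) (haa : a * a = zJ)
    (hswap : cj a K = cj e K) : False := by
  haveI : Fact (Nat.Prime 2) := ⟨Nat.prime_two⟩
  have hzc := h.zc
  have haz : Commute a zJ := mem_cen.mp (hPle haP).1
  have hat : Commute a zK := mem_cen.mp (hPle haP).2
  obtain ⟨R, hR, hPR⟩ := exists_isSyl (z := zJ) hP (hPle.trans inf_le_left)
  have hbJ : y * a * y⁻¹ ∈ cj y J := conj_mem_cj haJ
  have hJy := h.hJ.conj_of_commute h.hyz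
  have cab : Commute a (y * a * y⁻¹) := h.hJ.commute_of_two hJy h.hmove.symm hR.two haJ hbJ
    (hPR haP) (hPR (P.mul_mem (P.mul_mem hyP haP) (P.inv_mem hyP)))
  have hbb : y * a * y⁻¹ * (y * a * y⁻¹) = zJ := by
    calc y * a * y⁻¹ * (y * a * y⁻¹) = y * (a * a) * y⁻¹ := by group
      _ = zJ := by rw [haa, h.hyz.eq, mul_inv_cancel_right]
  set ya := a * y * a⁻¹ with hya
  have hyaK : ya ∈ cj e K := hswap ▸ conj_mem_cj h.hy
  have hyae : ya = zK * (zJ * y) := by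
    have hu : ya * (zJ * y)⁻¹ = a * (y * a * y⁻¹)⁻¹ * zJ := by
      rw [hya, mul_inv_rev, h.hJ.inv_z]; group
    have huK : ya * (zJ * y)⁻¹ ∈ cj e K := mul_mem hyaK (inv_mem h.hy2)
    have hsq : ya * (zJ * y)⁻¹ * (ya * (zJ * y)⁻¹) = 1 := by
      have hbz : Commute zJ (a * (y * a * y⁻¹)⁻¹) :=
        (haz.symm).mul_right ((h.hyz.symm.mul_right haz.symm).mul_right h.hyz.symm.inv_right).inv_right
      have hab' : Commute (y * a * y⁻¹)⁻¹ a := cab.symm.inv_left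
      rw [hu, hbz.mul_mul_mul_comm, h.hJ.sq_z, mul_one, hab'.mul_mul_mul_comm, haa, ← mul_inv_rev,
        hbb, mul_inv_cancel]
    rcases h.hK'.mem_or huK hsq with e1 | e1
    · exfalso
      rw [hu] at e1
      have h1 : y * a * y⁻¹ = a * zJ := by
        have h2 : zJ * a = a * zJ := haz.symm.eq
        calc y * a * y⁻¹ = (a * (y * a * y⁻¹)⁻¹ * zJ * zJ)⁻¹ * a := by
              rw [mul_assoc _ zJ zJ, h.hJ.sq_z]; group
          _ = zJ * a := by rw [e1, one_mul, h.hJ.inv_z]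
          _ = a * zJ := h2
      refine h.hmove (h.hJ.eq_of_four hJy (J.mul_mem haJ h.hJ.mem) (h1 ▸ hbJ) ?_ ?_).symm
      · exact ⟨2, by
          rw [show 2 ^ 2 = 2 + 2 from rfl, pow_add, pow_two, haz.symm.mul_mul_mul_comm, haa,
            h.hJ.sq_z, mul_one, h.hJ.sq_z]⟩
      · rw [haz.symm.mul_mul_mul_comm, haa, h.hJ.sq_z, mul_one]
        exact h.hJ.ne_one
    · calc ya = ya * (zJ * y)⁻¹ * (zJ * y) := by group
        _ = zK * (zJ * y) := by rw [e1]
  have hyy' : y * ya = zJ := by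
    rw [hyae, ← mul_assoc, (h.hK.commute h.hy).eq, mul_assoc, ← mul_assoc y, h.hyz.eq,
      mul_assoc zJ, h.hyy, hzc.symm.eq, ← mul_assoc, h.hK.sq_z, one_mul]
  obtain ⟨S, hS, hPS⟩ := exists_isSyl (z := zK) hP (hPle.trans inf_le_right)
  obtain ⟨c, hc, hcc, hcy, hh, hhe⟩ := exists_conj_inverter h.hK hS ⟨hPS hyP, h.hy⟩ h.hyy
  have hc2 : Commute c (zJ * y) := h.hK.commute_of_two h.hK' h.hne.symm hS.two hc.2 h.hy2 hc.1
    (S.mul_mem (hPS hzP) (hPS hyP))
  have hzinv := h.z_inverts hcc hcy hc2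
  set c2 := a * c * a⁻¹ with hc2d
  have hc2S : c2 ∈ S := S.mul_mem (S.mul_mem (hPS haP) hc.1) (S.inv_mem (hPS haP))
  have hc2K : c2 ∈ cj e K := hswap ▸ conj_mem_cj hc.2
  have ccc : Commute c c2 := h.hK.commute_of_two h.hK' h.hne.symm hS.two hc.2 hc2K hc.1 hc2S
  have hc2c : c2 * c2 = zK := by
    calc c2 * c2 = a * (c * c) * a⁻¹ := by rw [hc2d]; group
      _ = zK := by rw [hcc, hat.eq, mul_inv_cancel_right]
  set f := c * c2 with hf
  have hff : f * f = 1 := by rw [hf, ccc.symm.mul_mul_mul_comm, hcc, hc2c, h.hK.sq_z]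
  have hfi : f⁻¹ = f := inv_eq_of_mul_eq_one_right hff
  have hft : Commute f zK := (h.hK.commute hc.2).mul_left (h.hK'.commute hc2K)
  have hc2z : zJ * c2 * zJ⁻¹ = c2⁻¹ := by
    calc zJ * c2 * zJ⁻¹ = (zJ * a) * c * (zJ * a)⁻¹ := by rw [hc2d]; group
      _ = a * (zJ * c * zJ⁻¹) * a⁻¹ := by rw [← haz.eq]; group
      _ = c2⁻¹ := by rw [hzinv, hc2d]; group
  have hfz : Commute f zJ := by
    have h1 : zJ * f * zJ⁻¹ = f := by
      calc zJ * f * zJ⁻¹ = (zJ * c * zJ⁻¹) * (zJ * c2 * zJ⁻¹) := by rw [hf]; group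
        _ = (c2 * c)⁻¹ := by rw [hzinv, hc2z, mul_inv_rev c2 c]
        _ = f := by rw [← ccc.eq, ← hf, hfi]
    exact (mul_inv_eq_iff_eq_mul.mp h1).symm
  have hfa : f * a * f = zK * a := by
    have h1 : a * f * a⁻¹ = zK * f := by
      calc a * f * a⁻¹ = c2 * (a * a * c * (a * a)⁻¹) := by rw [hf, hc2d]; group
        _ = c2 * c⁻¹ := by rw [haa, hzinv]
        _ = c2 * (c * zK) := by
            rw [inv_eq_of_mul_eq_one_right (show c * (c * zK) = 1 by
              rw [← mul_assoc, hcc, h.hK.sq_z])]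
        _ = zK * f := by rw [← mul_assoc, ← ccc.eq, ← hf, hft.eq]
    calc f * a * f = f * (a * f * a⁻¹) * a := by group
      _ = (f * zK) * f * a := by rw [h1]; group
      _ = zK * (f * f) * a := by rw [hft.eq]; group
      _ = zK * a := by rw [hff, mul_one]
  have hfmove : cj f J ≠ J := by
    intro e1
    have h1 : zK * a ∈ J := by
      rw [← hfa]
      have h2 := conj_mem_cj (g := f) haJ
      rw [hfi] at h2
      exact e1.le h2
    have h3 : zK ∈ J := by simpa using J.mul_mem h1 (J.inv_mem haJ)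
    exact h.hzne (h.hJ.uniq zK h3 h.hK.ord).symm
  have hf1 : f ≠ 1 := fun e1 => hfmove (by rw [e1, cj_one])
  have hdiag : zK * zJ ∈ lay f := by
    have h1 := mem_lay_diag h.hJ (orderOf_eq_prime (by rw [pow_two, hff]) hf1) hfz hfmove haJ
      (two_pow_of_mem hP haP) (by rw [hfa]; exact hat.mul_right (Commute.refl a))
    rwa [hfa, ← mul_assoc, hat.eq, mul_assoc, haa] at h1
  -- computations modulo the core of `C(z(K))`
  set C := cen zK with hC
  set β := bar zK with hβ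
  set A : ↥C := ⟨a, mem_cen.mpr hat⟩ with hA
  set Y : ↥C := ⟨y, h.hK.le h.hy⟩ with hY
  set Cc : ↥C := ⟨c, h.hK.le hc.2⟩ with hCc
  set p1 : ↥C := ⟨((hh⁻¹ : ↥K) : G), h.hK.le (hh⁻¹).2⟩ with hp1
  set Z : ↥C := ⟨zJ, mem_cen.mpr hzc.symm⟩ with hZd
  set τ : ↥C := ⟨zK, mem_cen.mpr (Commute.refl zK)⟩ with hτ
  set F : ↥C := ⟨f, mem_cen.mpr hft⟩ with hFd
  have hp1c : β p1 * β Cc * (β p1)⁻¹ = β Y := by
    have h1 : β Cc = (β p1)⁻¹ * β Y * β p1 := by
      refine (congrArg Subtype.val hhe : _).trans ?_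
      rw [← map_inv, ← map_mul, ← map_mul]
      refine congrArg β (Subtype.ext ?_)
      show (hh : G) * y * (hh : G)⁻¹ = ((hh : G)⁻¹)⁻¹ * y * (hh : G)⁻¹
      rw [inv_inv]
    rw [h1]; group
  have hAK : ∀ x : ↥C, (x : G) ∈ K → ((A * x * A⁻¹ : ↥C) : G) ∈ cj e K := fun x hx =>
    hswap ▸ conj_mem_cj hx
  have bc : ∀ u v : ↥C, (u : G) ∈ K → (v : G) ∈ cj e K → Commute (β u) (β v) := fun u v hu hv =>
    bar_commute h.hK h.hK' h.hne.symm hu hv
  have hp1K : (p1 : G) ∈ K := (hh⁻¹).2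
  set rr : ↥C := p1 * Y * p1⁻¹ with hrr
  have hrrK : (rr : G) ∈ K := K.mul_mem (K.mul_mem hp1K h.hy) (K.inv_mem hp1K)
  set p : ↥C := p1 * (A * p1 * A⁻¹) with hp
  -- conjugation by `p` on the two factors
  have hpconj : ∀ u v : ↥C, (u : G) ∈ K → (v : G) ∈ K →
      β p * (β u * β (A * v * A⁻¹)) * (β p)⁻¹ =
        (β p1 * β u * (β p1)⁻¹) * (β A * (β p1 * β v * (β p1)⁻¹) * (β A)⁻¹) := by
    intro u v hu hv
    have c1 : Commute (β (A * p1 * A⁻¹)) (β u) := (bc u _ hu (hAK p1 hp1K)).symm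
    have hW : ((A * p1 * A⁻¹ * (A * v * A⁻¹) * (A * p1 * A⁻¹)⁻¹ : ↥C) : G) ∈ cj e K :=
      mul_mem (mul_mem (hAK p1 hp1K) (hAK v hv)) (inv_mem (hAK p1 hp1K))
    have c2' := bc p1 _ hp1K hW
    simp only [map_mul, map_inv, hp] at c1 c2' ⊢
    set a' := β A; set q' := β p1; set u' := β u; set v' := β v
    calc q' * (a' * q' * a'⁻¹) * (u' * (a' * v' * a'⁻¹)) * (q' * (a' * q' * a'⁻¹))⁻¹
        = q' * ((a' * q' * a'⁻¹) * u') * (a' * v' * a'⁻¹) * (a' * q' * a'⁻¹)⁻¹ * q'⁻¹ := by group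
      _ = q' * u' * ((a' * q' * a'⁻¹ * (a' * v' * a'⁻¹) * (a' * q' * a'⁻¹)⁻¹) * q'⁻¹) := by
          rw [c1.eq]; group
      _ = q' * u' * (q'⁻¹ * (a' * q' * a'⁻¹ * (a' * v' * a'⁻¹) * (a' * q' * a'⁻¹)⁻¹)) := by
          rw [c2'.inv_left.eq]
      _ = _ := by group
  have hZe : Z = Y * (A * Y * A⁻¹) := Subtype.ext hyy'.symm
  have hFe : F = Cc * (A * Cc * A⁻¹) := rfl
  have hpF : β (p * F * p⁻¹) = β Z := by
    rw [hFe, hZe, map_mul β (p * _), map_mul β p, map_inv, map_mul β Cc, hpconj Cc Cc hc.2 hc.2, hp1c]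
    simp only [map_mul, map_inv]
  -- adjust by an element of the core
  set x := p * F * p⁻¹ with hx
  have hxx : x * x = 1 := by
    calc x * x = p * (F * F) * p⁻¹ := by rw [hx]; group
      _ = 1 := by rw [show F * F = 1 from Subtype.ext hff, mul_one, mul_inv_cancel]
  have hZZ : Z * Z = 1 := Subtype.ext h.hJ.sq_z
  set q := x * Z with hq
  have hq1 : β q = 1 := by rw [hq, map_mul, hpF, ← map_mul, hZZ, map_one]
  have hqodd : Odd (orderOf q) := by
    rw [← Subgroup.orderOf_coe]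
    exact odd_core ⟨q, (QuotientGroup.eq_one_iff q).mp hq1, rfl⟩
  obtain ⟨m, hm⟩ := exists_sqrt hqodd
  set o := (q ^ m)⁻¹ with ho
  have hxi : x⁻¹ = x := inv_eq_of_mul_eq_one_right hxx
  have hZi : Z⁻¹ = Z := inv_eq_of_mul_eq_one_right hZZ
  have hxq : x * q * x⁻¹ = q⁻¹ := by
    rw [hq, mul_inv_rev x Z, hZi, hxi, ← mul_assoc x x Z, hxx, one_mul]
  have hxm : x * q ^ m * x⁻¹ = o := by rw [← conj_pow, hxq, inv_pow, ho]
  set Pp := o * p with hPp
  have hPF : Pp * F * Pp⁻¹ = Z := by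
    calc Pp * F * Pp⁻¹ = o * (x * q ^ m * x⁻¹) * x := by rw [hPp, hx, ho]; group
      _ = (q ^ m * q ^ m)⁻¹ * x := by rw [hxm, ho, mul_inv_rev]
      _ = Z := by rw [hm, hq, mul_inv_rev, hxi, mul_assoc, hxx, mul_one, hZi]
  set U := Pp * (τ * Z) * Pp⁻¹ with hU
  have hUJ : (U : G) ∈ Subgroup.normalizer (J : Set G) := by
    refine h.hJ.lay_le_normalizer ?_
    have h1 := conj_mem_lay hdiag (Pp : G)
    rwa [show (Pp : G) * f * (Pp : G)⁻¹ = zJ from congrArg Subtype.val hPF] at h1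
  have hτc : ∀ w : ↥C, Commute τ w := fun w => Subtype.ext (mem_cen.mp w.2).eq.symm
  have hrinv : β Y * β rr * (β Y)⁻¹ = β rr⁻¹ := by
    have h1 : Cc * Y * Cc⁻¹ = Y⁻¹ := Subtype.ext hcy
    have h2 := congrArg (fun w => β p1 * β w * (β p1)⁻¹) h1
    simp only [map_mul, map_inv] at h2
    rw [show β p1 * (β Cc * β Y * (β Cc)⁻¹) * (β p1)⁻¹ = (β p1 * β Cc * (β p1)⁻¹) *
      (β p1 * β Y * (β p1)⁻¹) * (β p1 * β Cc * (β p1)⁻¹)⁻¹ by group, hp1c] at h2
    rw [hrr, map_inv, map_mul, map_mul, map_inv, h2]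
    group
  set RR := β rr with hRR
  set R2 := β A * RR * (β A)⁻¹ with hR2
  have cR : Commute RR R2 := by
    have := bc rr _ hrrK (hAK rr hrrK)
    simpa only [map_mul, map_inv] using this
  have hUb : β U = β τ * (RR * R2) := by
    have h1 : β (p * Z * p⁻¹) = RR * R2 := by
      rw [hZe, map_mul β (p * _), map_mul β p, map_inv, map_mul β Y, hpconj Y Y h.hy h.hy, hR2, hRR, hrr]
      simp only [map_mul, map_inv]
    rw [hU, show Pp * (τ * Z) * Pp⁻¹ = τ * (Pp * Z * Pp⁻¹) by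
      rw [← mul_assoc Pp, ← (hτc Pp).eq]; group, map_mul, hPp, ← h1]
    have ho1 : β o = 1 := by rw [ho, map_inv, map_pow, hq1, one_pow, inv_one]
    simp only [map_mul, map_inv, ho1, one_mul]
  have hAA : A * A = Z := Subtype.ext haa
  have hZr : β Z * RR * (β Z)⁻¹ = RR⁻¹ := by
    have c1 := (bc rr (A * Y * A⁻¹) hrrK (hAK Y h.hy)).symm
    rw [hZe, map_mul, ← map_inv, hRR]
    rw [show β Y * β (A * Y * A⁻¹) * β rr * (β Y * β (A * Y * A⁻¹))⁻¹ =
      β Y * (β (A * Y * A⁻¹) * β rr * (β (A * Y * A⁻¹))⁻¹) * (β Y)⁻¹ by group, c1.eq,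
      mul_inv_cancel_right, hrinv]
  have hrsq : RR * RR = β τ := by
    rw [hRR, hrr, ← map_mul]
    refine congrArg β ?_
    calc p1 * Y * p1⁻¹ * (p1 * Y * p1⁻¹) = p1 * (Y * Y) * p1⁻¹ := by group
      _ = τ := by rw [show Y * Y = τ from Subtype.ext h.hyy, ← (hτc p1).eq, mul_inv_cancel_right]
  have hAU : β (A * U * A⁻¹) = β τ * β U := by
    rw [map_mul, map_mul, map_inv, hUb]
    have ct : Commute (β τ) (β A) := (hτc A).map β
    have hA2 : β A * R2 * (β A)⁻¹ = RR⁻¹ := by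
      rw [← hZr, ← hAA, map_mul, hR2]; group
    have htt : β τ * β τ = 1 := by
      rw [← map_mul, show τ * τ = 1 from Subtype.ext h.hK.sq_z, map_one]
    have hri : RR⁻¹ = RR * β τ := inv_eq_of_mul_eq_one_right (by rw [← mul_assoc, hrsq, htt])
    have crt : Commute (β τ) R2 := ((hτc A).map β).mul_right ((hτc rr).map β) |>.mul_right
      ((hτc A).map β).inv_right
    calc β A * (β τ * (RR * R2)) * (β A)⁻¹
        = (β A * β τ) * RR * (β A)⁻¹ * (β A * R2 * (β A)⁻¹) := by group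
      _ = β τ * R2 * RR⁻¹ := by rw [← ct.eq, hA2, hR2]; group
      _ = β τ * (R2 * RR) * β τ := by rw [hri]; group
      _ = β τ * ((RR * R2) * β τ) := by rw [cR.eq]; group
      _ = β τ * (β τ * (RR * R2)) := by
          rw [(((hτc rr).map β).mul_right crt).eq]
  set Qe := U⁻¹ * (A * U * A⁻¹) with hQe
  have hQJ : (Qe : G) ∈ J := by
    have h1 := (Subgroup.mem_normalizer_iff.mp (inv_mem hUJ) a).mp haJ
    show (U : G)⁻¹ * (a * (U : G) * a⁻¹) ∈ J
    rw [show (U : G)⁻¹ * (a * (U : G) * a⁻¹) = (U : G)⁻¹ * a * (U : G)⁻¹⁻¹ * a⁻¹ by group]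
    exact J.mul_mem h1 (J.inv_mem haJ)
  have hw1 : β (τ * Qe) = 1 := by
    rw [map_mul, hQe, map_mul, hAU, map_inv, ← mul_assoc, ((hτc U).map β).inv_right.eq, mul_assoc,
      ← mul_assoc (β τ), ← map_mul, show τ * τ = 1 from Subtype.ext h.hK.sq_z, map_one, one_mul,
      inv_mul_cancel]
  set w := τ * Qe with hw
  have hwodd : Odd (orderOf w) := by
    rw [← Subgroup.orderOf_coe]
    exact odd_core ⟨w, (QuotientGroup.eq_one_iff w).mp hw1, rfl⟩
  have hQw : Qe = τ * w := by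
    rw [hw, ← mul_assoc, show τ * τ = 1 from Subtype.ext h.hK.sq_z, one_mul]
  obtain ⟨k, hk⟩ := hwodd
  have h1 : Qe ^ orderOf w = τ := by
    rw [hQw, (hτc w).mul_pow, pow_orderOf_eq_one, mul_one, hk, pow_succ, pow_mul, pow_two,
      show τ * τ = 1 from Subtype.ext h.hK.sq_z, one_pow, one_mul]
  have h2 : zK ∈ J := by
    rw [show zK = ((Qe ^ orderOf w : ↥C) : G) from (congrArg Subtype.val h1).symm]
    rw [SubmonoidClass.coe_pow]
    exact pow_mem hQJ _
  exact h.hzne (h.hJ.uniq zK h2 h.hK.ord).symm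

end Pair

end Cfsg.Agent.Intrinsic63
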