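import Cfsg.Agent.Intrinsic63.Move

/-!
# Reduction to the exchange situation
-/

set_option autoImplicit false
set_option linter.style.haveILetI false
set_option linter.unusedSectionVars false
set_option linter.unusedVariables false

namespace Cfsg.Agent.Intrinsic63

open Subgroup
open Cfsg.Agent.Components
open scoped commutatorElement

universe u

variable {G : Type u} [Group G] [Finite G] {zJ zK y : G} {J K R : Subgroup G}

theorem UniqInv.mem_zpowers_z {T : Subgroup G} {z : G} (h : UniqInv T z) {t : G} (ht : t ∈ T)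
    (h1 : t ≠ 1) : z ∈ Subgroup.zpowers t := by
  obtain ⟨k, hk⟩ := two_pow_of_mem h.two ht
  induction k generalizing t with
  | zero => exact absurd (by simpa using hk) h1
  | succ k ih =>
    by_cases h2 : t * t = 1
    · rw [(h.mem_or ht h2).resolve_left h1]
      exact Subgroup.mem_zpowers z
    · refine Subgroup.zpowers_le.mpr (mul_mem (Subgroup.mem_zpowers t) (Subgroup.mem_zpowers t))
        (ih (T.mul_mem ht ht) h2 ?_)
      rw [← pow_two, ← pow_mul, ← pow_succ']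
      exact hk

/-- The element moving `J` has order four. -/
theorem sq_eq_of_moves (hJ : IComp zJ J) (hK : IComp zK K) (hzne : zJ ≠ zK)
    (hzN : zK ∈ Subgroup.normalizer (J : Set G))
    (hR : IsSyl zJ R) (hy : y ∈ R ⊓ K) (hyy : y * y ∈ Subgroup.normalizer (J : Set G))
    (hmove : cj y J ≠ J) {S : Subgroup G} (hS : IsSyl zK S) (hyS : y ∈ S) : y * y = zK := by
  haveI : Fact (Nat.Prime 2) := ⟨Nat.prime_two⟩
  have hy1 : y ≠ 1 := fun e => hmove (by rw [e, cj_one])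
  have hyz : Commute y zJ := mem_cen.mp (hR.le hy.1)
  have hJ' := hJ.conj_of_commute hyz
  have huJ := hJ.uniqInv hR
  have huK := hK.uniqInv hS
  set s := y * y with hs
  have hys : Commute y s := (Commute.refl y).mul_right (Commute.refl y)
  have hsR : s ∈ R := R.mul_mem hy.1 hy.1
  have hsK : s ∈ K := K.mul_mem hy.2 hy.2
  have hsT : s ∈ S ⊓ K := ⟨S.mul_mem hyS hyS, hsK⟩
  by_contra hne
  have hs1 : s ≠ 1 := by
    intro e
    rcases huK.mem_or ⟨hyS, hy.2⟩ e with e1 | e1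
    · exact hy1 e1
    · exact hmove (cj_eq_self.mpr (by rw [e1]; exact hzN))
  have hs2 : s * s ≠ 1 := fun e => (huK.mem_or hsT e).elim hs1 hne
  have hz2 : zK ∈ Subgroup.zpowers (s * s) :=
    huK.mem_zpowers_z ((S ⊓ K).mul_mem hsT hsT) hs2
  have hs2p : ∃ k, s ^ 2 ^ k = 1 := two_pow_of_mem hR.two hsR
  obtain ⟨a, ha, ha4, hn⟩ := huJ.exists_normalized (R := R ⊓ Subgroup.normalizer (J : Set G))
    (hR.two.to_le inf_le_left) (le_inf inf_le_left (inf_le_right.trans Subgroup.le_normalizer))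
    (fun t ht x hx => ⟨R.mul_mem (R.mul_mem ht.1 hx.1) (R.inv_mem ht.1),
      (Subgroup.mem_normalizer_iff.mp ht.2 x).mp hx.2⟩)
  have haa := huJ.sq_eq ha ha4
  have hsa := hn s ⟨hsR, hyy⟩
  have hssa : Commute (s * s) a := by
    have h1 : s * s * a * (s * s)⁻¹ = a := by
      rcases hsa with e | e
      · calc s * s * a * (s * s)⁻¹ = s * (s * a * s⁻¹) * s⁻¹ := by group
          _ = a := by rw [e, e]
      · calc s * s * a * (s * s)⁻¹ = s * (s * a * s⁻¹) * s⁻¹ := by group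
          _ = s * a⁻¹ * s⁻¹ := by rw [e]
          _ = (s * a * s⁻¹)⁻¹ := by group
          _ = a := by rw [e, inv_inv]
    exact mul_inv_eq_iff_eq_mul.mp h1
  have hta : Commute zK a := by
    obtain ⟨i, hi⟩ := Subgroup.mem_zpowers_iff.mp hz2
    exact hi ▸ hssa.zpow_left i
  have hty : Commute zK y := (hK.commute hy.2).symm
  set b := y * a * y⁻¹ with hb
  have hbR : b ∈ R := R.mul_mem (R.mul_mem hy.1 ha.1) (R.inv_mem hy.1)
  have hbJ : b ∈ cj y J := conj_mem_cj ha.2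
  have cab : Commute a b := hJ.commute_of_two hJ' hmove.symm hR.two ha.2 hbJ ha.1 hbR
  have htb : Commute zK b := (hty.mul_right hta).mul_right hty.inv_right
  have hbb : b * b = zJ := by
    calc b * b = y * (a * a) * y⁻¹ := by rw [hb]; group
      _ = zJ := by rw [haa, hyz.eq, mul_inv_cancel_right]
  have hybs : y * b * y⁻¹ = s * a * s⁻¹ := by rw [hb, hs]; group
  rcases hsa with hsa | hsa
  swap
  · -- inverted
    set e := a⁻¹ * b with he
    have het : Commute e⁻¹ zK := ((hta.inv_right).mul_right htb).symm.inv_left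
    have hK2 := hK.conj_of_commute het
    have key : e⁻¹ * y * e = zJ * y := by
      calc e⁻¹ * y * e = b⁻¹ * a * ((y * a * y⁻¹)⁻¹ * (y * b * y⁻¹)) * y := by rw [he]; group
        _ = b⁻¹ * (a * b⁻¹) * a⁻¹ * y := by rw [hybs, hsa, ← hb]; group
        _ = b⁻¹ * (b⁻¹ * a) * a⁻¹ * y := by rw [cab.inv_right.eq]
        _ = (b * b)⁻¹ * y := by group
        _ = zJ * y := by rw [hbb, hJ.inv_z]
    have hy2 : zJ * y ∈ cj e⁻¹ K := by
      have h1 := conj_mem_cj (g := e⁻¹) hy.2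
      rwa [inv_inv, key] at h1
    have hs' : s ∈ cj e⁻¹ K := by
      have h1 := mul_mem hy2 hy2
      rwa [hyz.mul_mul_mul_comm, hJ.sq_z, one_mul] at h1
    have heq := hK.eq_of_four hK2 hsK hs' hs2p hs2
    have h1 : zJ * y ∈ K := heq.ge hy2
    have h2 : zJ ∈ K := by simpa using K.mul_mem h1 (K.inv_mem hy.2)
    exact hzne (hK.uniq zJ h2 hJ.ord)
  -- centralised
  have haN : a ∈ Subgroup.normalizer (K : Set G) := by
    rw [← cj_eq_self]
    have hs' : s ∈ cj a K := by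
      have h1 := conj_mem_cj (g := a) hsK
      rwa [show a * s * a⁻¹ = s by
        rw [(mul_inv_eq_iff_eq_mul.mp hsa).symm, mul_inv_cancel_right]] at h1
    exact (hK.eq_of_four (hK.conj_of_commute hta.symm) hsK hs' hs2p hs2).symm
  have huv : a * b⁻¹ = a * y * a⁻¹ * y⁻¹ := by rw [hb]; group
  have huK' : a * b⁻¹ ∈ K := by
    rw [huv]
    exact K.mul_mem ((Subgroup.mem_normalizer_iff.mp haN y).mp hy.2) (K.inv_mem hy.2)
  have hu2 : a * b⁻¹ * (a * b⁻¹) = 1 := by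
    rw [cab.inv_right.symm.mul_mul_mul_comm, haa, ← mul_inv_rev, hbb, mul_inv_cancel]
  have hτ : zK = a * b⁻¹ := by
    rcases hK.mem_or huK' hu2 with e | e
    · refine absurd (hJ.eq_of_four hJ' ha.2 ((mul_inv_eq_one.mp e).symm ▸ hbJ)
        (two_pow_of_mem hR.two ha.1) (haa ▸ hJ.ne_one)).symm hmove
    · exact e.symm
  obtain ⟨d, hd, hd4, hda⟩ := huJ.exists_inverter ha ha4
  set d2 := y * d * y⁻¹ with hd2
  have hd2R : d2 ∈ R := R.mul_mem (R.mul_mem hy.1 hd.1) (R.inv_mem hy.1)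
  have hd2J : d2 ∈ cj y J := conj_mem_cj hd.2
  have cdb : Commute d b := hJ.commute_of_two hJ' hmove.symm hR.two hd.2 hbJ hd.1 hbR
  have cad2 : Commute a d2 := hJ.commute_of_two hJ' hmove.symm hR.two ha.2 hd2J ha.1 hd2R
  have cdd2 : Commute d d2 := hJ.commute_of_two hJ' hmove.symm hR.two hd.2 hd2J hd.1 hd2R
  have hd2b : d2 * b * d2⁻¹ = b⁻¹ := by
    calc d2 * b * d2⁻¹ = y * (d * a * d⁻¹) * y⁻¹ := by rw [hd2, hb]; group
      _ = b⁻¹ := by rw [hda, hb]; group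
  set h := d * d2 with hh
  have hht : Commute h zK := by
    have h1 : h * zK * h⁻¹ = zK := by
      calc h * zK * h⁻¹ = d * (d2 * a * d2⁻¹) * (d2 * b * d2⁻¹)⁻¹ * d⁻¹ := by rw [hτ, hh]; group
        _ = (d * a * d⁻¹) * (d * b * d⁻¹) := by
            rw [cad2.symm.eq, mul_inv_cancel_right, hd2b]; group
        _ = (a * b⁻¹)⁻¹ := by
            rw [hda, cdb.eq, mul_inv_cancel_right, mul_inv_rev, inv_inv, cab.inv_left.eq]
        _ = zK := by rw [← hτ, hK.inv_z]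
    exact mul_inv_eq_iff_eq_mul.mp h1
  set t := s * d * s⁻¹ * d⁻¹ with ht
  have htT : t ∈ R ⊓ J := ⟨R.mul_mem (R.mul_mem (R.mul_mem hsR hd.1) (R.inv_mem hsR)) (R.inv_mem hd.1),
    J.mul_mem ((Subgroup.mem_normalizer_iff.mp hyy d).mp hd.2) (J.inv_mem hd.2)⟩
  have ctd2 : Commute t d2 := hJ.commute_of_two hJ' hmove.symm hR.two htT.2 hd2J htT.1 hd2R
  have hyh : y * h * y⁻¹ = t * h := by
    calc y * h * y⁻¹ = d2 * (s * d * s⁻¹) := by rw [hh, hd2, hs]; group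
      _ = (d2 * t) * d := by rw [ht]; group
      _ = t * (d2 * d) := by rw [← ctd2.eq, mul_assoc]
      _ = t * h := by rw [← cdd2.eq, hh]
  have ht1 : t ≠ 1 := by
    intro e
    have hsd : Commute s d := mul_inv_eq_iff_eq_mul.mp (mul_inv_eq_one.mp e)
    have htd : Commute zK d := by
      obtain ⟨i, hi⟩ := Subgroup.mem_zpowers_iff.mp hz2
      exact hi ▸ (hsd.mul_left hsd).zpow_left i
    have h1 : d * zK * d⁻¹ = a⁻¹ * b⁻¹ := by
      calc d * zK * d⁻¹ = (d * a * d⁻¹) * (d * b⁻¹ * d⁻¹) := by rw [hτ]; group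
        _ = a⁻¹ * b⁻¹ := by rw [hda, cdb.inv_right.eq, mul_inv_cancel_right]
    rw [← htd.eq, mul_inv_cancel_right, hτ, mul_left_inj, eq_inv_iff_mul_eq_one, haa] at h1
    exact hJ.ne_one h1
  by_cases hhN : h ∈ Subgroup.normalizer (K : Set G)
  · have h1 : t ∈ K := by
      have h2 : t = y * (h * y⁻¹ * h⁻¹) := by
        calc t = t * h * h⁻¹ := by group
          _ = y * (h * y⁻¹ * h⁻¹) := by rw [← hyh]; group
      rw [h2]
      exact K.mul_mem hy.2 ((Subgroup.mem_normalizer_iff.mp hhN y⁻¹).mp (K.inv_mem hy.2))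
    exact hzne (hK.uniq zJ (Subgroup.zpowers_le.mpr h1 (huJ.mem_zpowers_z htT ht1)) hJ.ord)
  · set K2 := cj h K with hK2d
    have hK2 := hK.conj_of_commute hht
    have hne2 : K ≠ K2 := fun e => hhN (cj_eq_self.mp e.symm)
    have hy2 : h * y * h⁻¹ = t⁻¹ * y := by
      calc h * y * h⁻¹ = t⁻¹ * (t * h) * y * h⁻¹ := by group
        _ = t⁻¹ * y := by rw [← hyh]; group
    have hy2K : t⁻¹ * y ∈ K2 := hy2 ▸ conj_mem_cj hy.2
    have hy2R : t⁻¹ * y ∈ R := R.mul_mem (R.inv_mem htT.1) hy.1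
    have cy : Commute y (t⁻¹ * y) := hK.commute_of_two hK2 hne2 hR.two hy.2 hy2K hy.1 hy2R
    have cyt : Commute y t := by
      have h1 := cy.mul_right (Commute.refl y).inv_right
      rw [mul_inv_cancel_right] at h1
      simpa using h1.inv_right
    by_cases htt : t * t = 1
    · have htz : t = zJ := (huJ.mem_or htT htt).resolve_left ht1
      have hs' : s ∈ K2 := by
        have h1 := mul_mem hy2K hy2K
        rwa [htz, hJ.inv_z, hyz.mul_mul_mul_comm, hJ.sq_z, one_mul] at h1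
      exact hne2 (hK.eq_of_four hK2 hsK hs' hs2p hs2)
    · have htJ : t ∈ cj y J := by
        have h1 := conj_mem_cj (g := y) htT.2
        rwa [cyt.eq, mul_inv_cancel_right] at h1
      exact hmove (hJ.eq_of_four hJ' htT.2 htJ (two_pow_of_mem hR.two htT.1) htt).symm

/-- Some element of order four of `J` is inverted by `z(K)`. -/
theorem exists_inverted (hJ : IComp zJ J) (hK : IComp zK K) (hzne : zJ ≠ zK)
    (hzN : zK ∈ Subgroup.normalizer (J : Set G))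
    (hR : IsSyl zJ R) (hy : y ∈ R ⊓ K) (hyy : y * y = zK) (hmove : cj y J ≠ J) :
    ∃ d ∈ R ⊓ J, d * d = zJ ∧ zK * d * zK⁻¹ = d⁻¹ := by
  haveI : Fact (Nat.Prime 2) := ⟨Nat.prime_two⟩
  by_contra hnot
  push Not at hnot
  have hyz : Commute y zJ := mem_cen.mp (hR.le hy.1)
  have hzc : Commute zK zJ := hyy ▸ hyz.mul_left hyz
  have hty : Commute zK y := (hK.commute hy.2).symm
  have hJ' := hJ.conj_of_commute hyz
  have hu := hJ.uniqInv hR
  have hzR : zK ∈ R := hyy ▸ R.mul_mem hy.1 hy.1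
  obtain ⟨S, hS, hPS⟩ := exists_isSyl (z := zK) (P := R ⊓ cen zK) (hR.two.to_le inf_le_left)
    inf_le_right
  have hyS : y ∈ S := hPS ⟨hy.1, hK.le hy.2⟩
  obtain ⟨a, ha, ha4, hn⟩ := hu.exists_normalized (R := R ⊓ Subgroup.normalizer (J : Set G))
    (hR.two.to_le inf_le_left) (le_inf inf_le_left (inf_le_right.trans Subgroup.le_normalizer))
    (fun t ht x hx => ⟨R.mul_mem (R.mul_mem ht.1 hx.1) (R.inv_mem ht.1),
      (Subgroup.mem_normalizer_iff.mp ht.2 x).mp hx.2⟩)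
  have haa := hu.sq_eq ha ha4
  have hta : Commute zK a := by
    rcases hn zK ⟨hzR, hzN⟩ with e | e
    · exact mul_inv_eq_iff_eq_mul.mp e
    · exact absurd e (hnot a ha haa)
  obtain ⟨d, hd, hd4, hda⟩ := hu.exists_inverter ha ha4
  have hdd := hu.sq_eq hd hd4
  set t0 := zK * d * zK⁻¹ * d⁻¹ with ht0
  have ht0T : t0 ∈ R ⊓ J := ⟨R.mul_mem (R.mul_mem (R.mul_mem hzR hd.1) (R.inv_mem hzR)) (R.inv_mem hd.1),
    J.mul_mem ((Subgroup.mem_normalizer_iff.mp hzN d).mp hd.2) (J.inv_mem hd.2)⟩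
  have htd : Commute zK d := by
    by_cases h2 : t0 * t0 = 1
    · rcases hu.mem_or ht0T h2 with e | e
      · exact mul_inv_eq_iff_eq_mul.mp (mul_inv_eq_one.mp e)
      · refine absurd ?_ (hnot d hd hdd)
        calc zK * d * zK⁻¹ = t0 * d := by rw [ht0]; group
          _ = zJ * d := by rw [e]
          _ = d⁻¹ := eq_inv_of_mul_eq_one_left (by rw [mul_assoc, hdd, hJ.sq_z])
    · exfalso
      have hc : Commute a t0 := by
        have h1 : t0 * a * t0⁻¹ = a := by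
          calc t0 * a * t0⁻¹ = zK * d * zK⁻¹ * (d⁻¹ * a * d) * zK * d⁻¹ * zK⁻¹ := by rw [ht0]; group
            _ = zK * d * zK⁻¹ * a⁻¹ * zK * d⁻¹ * zK⁻¹ := by
                rw [show d⁻¹ * a * d = a⁻¹ by
                  calc d⁻¹ * a * d = (d⁻¹ * (d * a * d⁻¹) * d)⁻¹ := by rw [hda]; group
                    _ = a⁻¹ := by group]
            _ = zK * d * (zK⁻¹ * a⁻¹) * zK * d⁻¹ * zK⁻¹ := by group
            _ = zK * d * (a⁻¹ * zK⁻¹) * zK * d⁻¹ * zK⁻¹ := by rw [hta.inv_inv.eq]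
            _ = zK * (d * a * d⁻¹)⁻¹ * zK⁻¹ := by group
            _ = a := by rw [hda, inv_inv, hta.eq, mul_inv_cancel_right]
        exact (mul_inv_eq_iff_eq_mul.mp h1).symm
      obtain ⟨i, hi⟩ := Subgroup.mem_zpowers_iff.mp (hu.mem_zpowers ha ht0T ha4 h2 hc)
      have h1 : zK * t0 * zK⁻¹ = t0⁻¹ := by
        have hzi := hK.inv_z
        calc zK * t0 * zK⁻¹ = (zK * zK) * d * zK⁻¹ * d⁻¹ * zK⁻¹ := by rw [ht0]; group
          _ = d * zK * d⁻¹ * zK⁻¹ := by rw [hK.sq_z, one_mul, hzi]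
          _ = t0⁻¹ := by rw [ht0]; group
      have h3 : zK * a * zK⁻¹ = a⁻¹ := by rw [← hi, ← conj_zpow, h1, inv_zpow]
      exact hnot a ha haa h3
  -- nothing centralised by `z(K)` normalises `K`
  have hall : ∀ x ∈ R ⊓ J, x * x = zJ → Commute zK x → cj x K ≠ K := by
    intro x hx hxx htx hxK
    have hxb : Commute x (y * x * y⁻¹) := hJ.commute_of_two hJ' hmove.symm hR.two hx.2
      (conj_mem_cj hx.2) hx.1 (R.mul_mem (R.mul_mem hy.1 hx.1) (R.inv_mem hy.1))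
    have huK' : x * (y * x * y⁻¹)⁻¹ ∈ K := by
      rw [show x * (y * x * y⁻¹)⁻¹ = (x * y * x⁻¹) * y⁻¹ by group]
      exact K.mul_mem ((Subgroup.mem_normalizer_iff.mp (cj_eq_self.mp hxK) y).mp hy.2)
        (K.inv_mem hy.2)
    have hbb : y * x * y⁻¹ * (y * x * y⁻¹) = zJ := by
      calc y * x * y⁻¹ * (y * x * y⁻¹) = y * (x * x) * y⁻¹ := by group
        _ = zJ := by rw [hxx, hyz.eq, mul_inv_cancel_right]
    have hu2 : x * (y * x * y⁻¹)⁻¹ * (x * (y * x * y⁻¹)⁻¹) = 1 := by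
      rw [hxb.inv_right.symm.mul_mul_mul_comm, hxx, ← mul_inv_rev, hbb, mul_inv_cancel]
    rcases hK.mem_or huK' hu2 with e | e
    · exact hmove (hJ.eq_of_four hJ' hx.2 ((mul_inv_eq_one.mp e).symm ▸ conj_mem_cj hx.2)
        (two_pow_of_mem hR.two hx.1) (hxx ▸ hJ.ne_one)).symm
    · obtain ⟨c, hc, hc4, hcx⟩ := hu.exists_inverter hx (hu.order_four hxx)
      have hcb : Commute c (y * x * y⁻¹) := hJ.commute_of_two hJ' hmove.symm hR.two hc.2
        (conj_mem_cj hx.2) hc.1 (R.mul_mem (R.mul_mem hy.1 hx.1) (R.inv_mem hy.1))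
      have hcc := hu.sq_eq hc hc4
      have h1 : c * zK * c⁻¹ = zJ * zK := by
        calc c * zK * c⁻¹ = (c * x * c⁻¹) * (c * (y * x * y⁻¹)⁻¹ * c⁻¹) := by rw [← e]; group
          _ = x⁻¹ * (y * x * y⁻¹)⁻¹ := by rw [hcx, hcb.inv_right.eq, mul_inv_cancel_right]
          _ = (x * x)⁻¹ * (x * (y * x * y⁻¹)⁻¹) := by group
          _ = zJ * zK := by rw [hxx, hJ.inv_z, e]
      refine hnot c hc hcc ?_
      calc zK * c * zK⁻¹ = zK * (c * zK⁻¹ * c⁻¹) * c := by group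
        _ = zK * (c * zK * c⁻¹) * c := by rw [hK.inv_z]
        _ = zJ * (zK * zK) * c := by rw [h1, ← mul_assoc zK zJ, hzc.eq]; group
        _ = c⁻¹ := eq_inv_of_mul_eq_one_left (by
            rw [hK.sq_z, mul_one, mul_assoc, hcc, hJ.sq_z])
  -- the conjugates of `y`
  have hdaT : d * a ∈ R ⊓ J := (R ⊓ J).mul_mem hd ha
  have hdaa : d * a * (d * a) = zJ := by
    calc d * a * (d * a) = (d * a * d⁻¹) * (d * d) * a := by group
      _ = a⁻¹ * (zJ * a) := by rw [hda, hdd, mul_assoc]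
      _ = zJ := by rw [(hu.commute_z ha).eq, inv_mul_cancel_left]
  have conjy : ∀ x ∈ R ⊓ J, x * x = zJ → Commute zK x →
      IComp zK (cj x K) ∧ cj x K ≠ K ∧ x * y * x⁻¹ ∈ S := fun x hx hxx htx =>
    ⟨hK.conj_of_commute htx.symm, hall x hx hxx htx,
      S.mul_mem (S.mul_mem (hPS ⟨hx.1, mem_cen.mpr htx.symm⟩) hyS)
        (S.inv_mem (hPS ⟨hx.1, mem_cen.mpr htx.symm⟩))⟩
  obtain ⟨hKa, hna, hSa⟩ := conjy a ha haa hta
  obtain ⟨hKd, hnd, hSd⟩ := conjy d hd hdd htd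
  obtain ⟨hKq, hnq, hSq⟩ := conjy (d * a) hdaT hdaa (htd.mul_right hta)
  have huK := hK.uniqInv hS
  obtain ⟨c, hc, hc4, hcy⟩ := huK.exists_inverter ⟨hyS, hy.2⟩ (huK.order_four hyy)
  have hcc := huK.sq_eq hc hc4
  set ya := a * y * a⁻¹ with hya
  set yd := d * y * d⁻¹ with hyd
  set yq := d * a * y * (d * a)⁻¹ with hyq
  have ca : Commute c ya := hK.commute_of_two hKa hna.symm hS.two hc.2 (conj_mem_cj hy.2) hc.1 hSa
  have cd : Commute c yd := hK.commute_of_two hKd hnd.symm hS.two hc.2 (conj_mem_cj hy.2) hc.1 hSd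
  have cq : Commute c yq := hK.commute_of_two hKq hnq.symm hS.two hc.2 (conj_mem_cj hy.2) hc.1 hSq
  set b := y * a * y⁻¹ with hb
  have hbR : b ∈ R := R.mul_mem (R.mul_mem hy.1 ha.1) (R.inv_mem hy.1)
  have cdb : Commute d b := hJ.commute_of_two hJ' hmove.symm hR.two hd.2 (conj_mem_cj ha.2) hd.1 hbR
  have hez : zJ = y * ya⁻¹ * (yq * yd⁻¹) := by
    have h1 : yq * yd⁻¹ = a⁻¹ * b⁻¹ := by
      calc yq * yd⁻¹ = (d * a * d⁻¹) * (d * b⁻¹ * d⁻¹) := by rw [hyq, hyd, hb]; group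
        _ = a⁻¹ * b⁻¹ := by rw [hda, cdb.inv_right.eq, mul_inv_cancel_right]
    have hcab : Commute a b := hJ.commute_of_two hJ' hmove.symm hR.two ha.2 (conj_mem_cj ha.2) ha.1 hbR
    calc zJ = (a * a)⁻¹ := by rw [haa, hJ.inv_z]
      _ = a⁻¹ * a⁻¹ * b * b⁻¹ := by group
      _ = b * (a⁻¹ * a⁻¹) * b⁻¹ := by rw [(hcab.inv_left.mul_left hcab.inv_left).eq]
      _ = b * a⁻¹ * (yq * yd⁻¹) := by rw [h1]; group
      _ = y * ya⁻¹ * (yq * yd⁻¹) := by rw [hb, hya]; group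
  have hcz : c * zJ * c⁻¹ = zK * zJ := by
    have cr : Commute c (ya⁻¹ * (yq * yd⁻¹)) := ca.inv_right.mul_right (cq.mul_right cd.inv_right)
    calc c * zJ * c⁻¹ = (c * y * c⁻¹) * (c * (ya⁻¹ * (yq * yd⁻¹)) * c⁻¹) := by rw [hez]; group
      _ = (y * y)⁻¹ * (y * ya⁻¹ * (yq * yd⁻¹)) := by rw [hcy, cr.eq]; group
      _ = zK * zJ := by rw [hyy, hK.inv_z, ← hez]
  have hzinv : zJ * c * zJ⁻¹ = c⁻¹ := by
    calc zJ * c * zJ⁻¹ = zJ * (c * zJ * c⁻¹)⁻¹ * c := by rw [hJ.inv_z]; group; simp [hJ.inv_z]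
      _ = zK * c := by
          rw [hcz, mul_inv_rev, hJ.inv_z, hK.inv_z, ← mul_assoc zJ, hJ.sq_z, one_mul]
      _ = c⁻¹ := eq_inv_of_mul_eq_one_left (by rw [mul_assoc, hcc, hK.sq_z])
  set c2 := a * c * a⁻¹ with hc2
  have haS : a ∈ S := hPS ⟨ha.1, mem_cen.mpr hta.symm⟩
  have ccc : Commute c c2 := hK.commute_of_two hKa hna.symm hS.two hc.2 (conj_mem_cj hc.2) hc.1
    (S.mul_mem (S.mul_mem haS hc.1) (S.inv_mem haS))
  have haz : Commute a zJ := (hu.commute_z ha).symm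
  have hc2z : zJ * c2 * zJ⁻¹ = c2⁻¹ := by
    calc zJ * c2 * zJ⁻¹ = (zJ * a) * c * (zJ * a)⁻¹ := by rw [hc2]; group
      _ = a * (zJ * c * zJ⁻¹) * a⁻¹ := by rw [← haz.eq]; group
      _ = c2⁻¹ := by rw [hzinv, hc2]; group
  have hc2c : c2 * c2 = zK := by
    calc c2 * c2 = a * (c * c) * a⁻¹ := by rw [hc2]; group
      _ = zK := by rw [hcc, ← hta.eq, mul_inv_cancel_right]
  set f := c⁻¹ * c2 with hf
  have hff : f * f = 1 := by
    rw [hf, ccc.inv_left.symm.mul_mul_mul_comm, ← mul_inv_rev, hcc, hc2c, inv_mul_cancel]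
  have hfz : Commute f zJ := by
    have h1 : zJ * f * zJ⁻¹ = f⁻¹ := by
      calc zJ * f * zJ⁻¹ = (zJ * c * zJ⁻¹)⁻¹ * (zJ * c2 * zJ⁻¹) := by rw [hf]; group
        _ = c * c2⁻¹ := by rw [hzinv, hc2z, inv_inv]
        _ = f⁻¹ := by rw [hf, mul_inv_rev c⁻¹ c2, inv_inv, ccc.inv_right.eq]
    rw [inv_eq_of_mul_eq_one_right hff] at h1
    exact (mul_inv_eq_iff_eq_mul.mp h1).symm
  have hfa : f⁻¹ * a * f = zK * a := by
    have h1 : a * f * a⁻¹ = c2⁻¹ * c⁻¹ := by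
      calc a * f * a⁻¹ = c2⁻¹ * (a * a * c * (a * a)⁻¹) := by rw [hf, hc2]; group
        _ = c2⁻¹ * c⁻¹ := by rw [haa, hzinv]
    calc f⁻¹ * a * f = c2⁻¹ * c * (a * f * a⁻¹) * a := by rw [hf]; group
      _ = c2⁻¹ * (c * c2⁻¹) * c⁻¹ * a := by rw [h1]; group
      _ = c2⁻¹ * (c2⁻¹ * c) * c⁻¹ * a := by rw [ccc.inv_right.eq]
      _ = (c2 * c2)⁻¹ * a := by group
      _ = zK * a := by rw [hc2c, hK.inv_z]
  have hmem : zK * a ∈ cj f⁻¹ J := by
    have h1 := conj_mem_cj (g := f⁻¹) ha.2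
    rwa [inv_inv, hfa] at h1
  have hfne : J ≠ cj f⁻¹ J := by
    intro e
    have h1 : zK ∈ J := by simpa using J.mul_mem (e.ge hmem) (J.inv_mem ha.2)
    exact hzne (hJ.uniq zK h1 hK.ord).symm
  have hdx : Commute d (zK * a) := hJ.commute_of_two (hJ.conj_of_commute hfz.inv_left) hfne hR.two
    hd.2 hmem hd.1 (R.mul_mem hzR ha.1)
  have hcomm : Commute d a := by
    have h1 := (htd.symm).inv_right.mul_right hdx
    simpa using h1
  rw [hcomm.eq, mul_inv_cancel_right, eq_inv_iff_mul_eq_one, haa] at hda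
  exact hJ.ne_one hda

/-- A `2`-element of order at least four of `K` centralising `z(J)` normalises `J`. -/
theorem false_of_moves (hJ : IComp zJ J) (hK : IComp zK K) (hzne : zJ ≠ zK)
    (hzN : zK ∈ Subgroup.normalizer (J : Set G)) (hy : y ∈ K) (hy2 : ∃ k, y ^ 2 ^ k = 1)
    (hyz : Commute y zJ) (hyy : y * y ∈ Subgroup.normalizer (J : Set G)) (hmove : cj y J ≠ J) :
    False := by
  haveI : Fact (Nat.Prime 2) := ⟨Nat.prime_two⟩
  obtain ⟨R, hR, hyR'⟩ := exists_isSyl (zpowers_two hy2)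
    (Subgroup.zpowers_le.mpr (mem_cen.mpr hyz : y ∈ cen zJ))
  have hyR : y ∈ R := hyR' (Subgroup.mem_zpowers y)
  obtain ⟨S, hS, hyS'⟩ := exists_isSyl (z := zK) (zpowers_two hy2) (Subgroup.zpowers_le.mpr (hK.le hy))
  have hsq : y * y = zK := sq_eq_of_moves hJ hK hzne hzN hR ⟨hyR, hy⟩ hyy hmove hS
    (hyS' (Subgroup.mem_zpowers y))
  obtain ⟨d, hd, hdd, hdi⟩ := exists_inverted hJ hK hzne hzN hR ⟨hyR, hy⟩ hsq hmove
  have hJ' := hJ.conj_of_commute hyz
  set d2 := y * d * y⁻¹ with hd2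
  have hd2R : d2 ∈ R := R.mul_mem (R.mul_mem hyR hd.1) (R.inv_mem hyR)
  have cdd : Commute d d2 := hJ.commute_of_two hJ' hmove.symm hR.two hd.2 (conj_mem_cj hd.2) hd.1 hd2R
  have hdz : Commute d zJ := hJ.commute hd.2
  have hd2z : Commute d2 zJ := hJ'.commute (conj_mem_cj hd.2)
  have hd2i : zK * d2 * zK⁻¹ = d2⁻¹ := by
    calc zK * d2 * zK⁻¹ = (zK * y) * d * (zK * y)⁻¹ := by rw [hd2]; group
      _ = y * (zK * d * zK⁻¹) * y⁻¹ := by rw [← (hK.commute hy).eq]; group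
      _ = d2⁻¹ := by rw [hdi, hd2]; group
  have hd2d : d2 * d2 = zJ := by
    calc d2 * d2 = y * (d * d) * y⁻¹ := by rw [hd2]; group
      _ = zJ := by rw [hdd, hyz.eq, mul_inv_cancel_right]
  set e := d⁻¹ * d2 with he
  have hee : e * e = 1 := by
    rw [he, cdd.inv_left.symm.mul_mul_mul_comm, ← mul_inv_rev, hdd, hd2d, inv_mul_cancel]
  have hei : e⁻¹ = e := inv_eq_of_mul_eq_one_right hee
  have het : Commute e zK := by
    have h1 : zK * e * zK⁻¹ = e⁻¹ := by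
      calc zK * e * zK⁻¹ = (zK * d * zK⁻¹)⁻¹ * (zK * d2 * zK⁻¹) := by rw [he]; group
        _ = d * d2⁻¹ := by rw [hdi, hd2i, inv_inv]
        _ = e⁻¹ := by rw [he, mul_inv_rev d⁻¹ d2, inv_inv, cdd.inv_right.eq]
    rw [hei] at h1
    exact (mul_inv_eq_iff_eq_mul.mp h1).symm
  have hyey : y * e * y⁻¹ = e * zJ := by
    calc y * e * y⁻¹ = d2⁻¹ * ((y * y) * d * (y * y)⁻¹) := by rw [he, hd2]; group
      _ = d2⁻¹ * d⁻¹ := by rw [hsq, hdi]
      _ = d⁻¹ * d2⁻¹ := cdd.symm.inv_inv.eq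
      _ = d⁻¹ * (d2 * zJ) := by
          rw [inv_eq_of_mul_eq_one_right (show d2 * (d2 * zJ) = 1 by
            rw [← mul_assoc, hd2d, hJ.sq_z])]
      _ = e * zJ := by rw [he]; group
  have hy2' : zJ * y ∈ cj e K := by
    have h1 := conj_mem_cj (g := e) hy
    rwa [show e * y * e⁻¹ = zJ * y by
      calc e * y * e⁻¹ = e * (y * e * y⁻¹) * y := by rw [hei]; group
        _ = zJ * y := by rw [hyey, ← mul_assoc, hee, one_mul]] at h1
  have hpair : Pair zJ zK y e J K := by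
    refine ⟨hJ, hK, hzne, hzN, hy, hsq, hyz, hmove, hdz.inv_left.mul_left hd2z, het, hy2', ?_⟩
    intro e1
    have h1 : zJ ∈ K := by simpa using K.mul_mem (e1.le hy2') (K.inv_mem hy)
    exact hzne (hK.uniq zJ h1 hJ.ord)
  obtain ⟨a, P, hP, hPle, hyP, hzP, haP, haJ, haa, hswap⟩ := hpair.exists_swap hR hyR hd hdd hdi
  exact hpair.false_of_swap hP hPle hyP hzP haP haJ haa hswap

end Cfsg.Agent.Intrinsic63
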