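import Cfsg.Agent.Intrinsic63.Diag
import Cfsg.Agent.Intrinsic63.CentMod

/-!
# If `z(J)` normalises `K` then `z(K)` normalises `J`
-/

set_option autoImplicit false
set_option linter.style.haveILetI false
set_option linter.unusedSectionVars false

namespace Cfsg.Agent.Intrinsic63

open Subgroup
open Cfsg.Agent.Components
open scoped commutatorElement

universe u

variable {G : Type u} [Group G] [Finite G]

/-- The number of inner automorphisms. -/
noncomputable abbrev innCard (X : Type*) [Group X] : ℕ :=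
  Nat.card (MulAut.conj : X →* MulAut X).range

theorem innCard_congr {X Y : Type*} [Group X] [Group Y] (e : X ≃* Y) : innCard X = innCard Y := by
  have hsq : (MulAut.congr e).toMonoidHom.comp (MulAut.conj : X →* MulAut X) =
      (MulAut.conj : Y →* MulAut Y).comp e.toMonoidHom := by
    ext x y
    simp [MulAut.congr]
  have h1 := congrArg MonoidHom.range hsq
  rw [MonoidHom.range_comp, MonoidHom.range_comp,
    MonoidHom.range_eq_top (f := e.toMonoidHom) |>.mpr e.surjective, ← MonoidHom.range_eq_map] at h1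
  show Nat.card _ = Nat.card _
  rw [← h1, Subgroup.card_map_of_injective (MulAut.congr e).injective]

theorem IComp.innCard_Lb {z : G} {K : Subgroup G} (h : IComp z K) :
    innCard ↥(Lb z K) = innCard (↥K ⧸ Cfsg.pPrimeCore 2 ↥K) :=
  (innCard_congr h.equivBar).symm

theorem innCard_cj (g : G) (J : Subgroup G) :
    innCard (↥(cj g J) ⧸ Cfsg.pPrimeCore 2 ↥(cj g J)) =
      innCard (↥J ⧸ Cfsg.pPrimeCore 2 ↥J) := by
  haveI : Fact (Nat.Prime 2) := ⟨Nat.prime_two⟩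
  let e := J.equivMapOfInjective (MulAut.conj g).toMonoidHom (MulAut.conj g).injective
  exact (innCard_congr (QuotientGroup.congr _ _ e (Thompson.map_pPrimeCore_equiv e))).symm

theorem two_pow_of_mem {R : Subgroup G} (hR : IsPGroup 2 R) {x : G} (hx : x ∈ R) :
    ∃ k, x ^ 2 ^ k = 1 := by
  obtain ⟨k, hk⟩ := hR ⟨x, hx⟩
  exact ⟨k, congrArg Subtype.val hk⟩

theorem commute_of_mem_core {z : G} {R : Subgroup G} (hR : IsPGroup 2 R) {x y : G} (hx : x ∈ R)
    (hy : y ∈ R)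
    (h : x * y * x⁻¹ * y⁻¹ ∈ (Cfsg.pPrimeCore 2 ↥(cen z)).map (cen z).subtype) : Commute x y := by
  haveI : Fact (Nat.Prime 2) := ⟨Nat.prime_two⟩
  have hcop : (Nat.card ↥((Cfsg.pPrimeCore 2 ↥(cen z)).map (cen z).subtype)).Coprime 2 := by
    rw [Subgroup.card_map_of_injective (cen z).subtype_injective]
    exact Thompson.card_pPrimeCore_coprime
  have h' : x * y * x⁻¹ * y⁻¹ ∈ R ⊓ (Cfsg.pPrimeCore 2 ↥(cen z)).map (cen z).subtype :=
    ⟨R.mul_mem (R.mul_mem (R.mul_mem hx hy) (R.inv_mem hx)) (R.inv_mem hy), h⟩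
  rw [Thompson.inf_eq_bot_of_isPGroup_of_coprime hR hcop, Subgroup.mem_bot] at h'
  exact commutatorElement_eq_one_iff_commute.mp h'

theorem UniqInv.exists_four {T : Subgroup G} {z : G} (h : UniqInv T z) :
    ∃ a ∈ T, orderOf a = 4 := by
  obtain ⟨a, ha, ha4, -⟩ := h.exists_normalized h.two le_rfl
    (fun s hs t ht => T.mul_mem (T.mul_mem hs ht) (T.inv_mem hs))
  exact ⟨a, ha, ha4⟩

/-- The case of an element of order four centralising `z(J)`. -/
theorem false_of_four {zJ zK : G} {J K : Subgroup G} (hJ : IComp zJ J) (hK : IComp zK K)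
    (hmove : cj zK J ≠ J) {w : G} (hw : w ∈ K) (hww : w * w = zK) (hwz : Commute w zJ) :
    False := by
  haveI : Fact (Nat.Prime 2) := ⟨Nat.prime_two⟩
  have hzz : zK * zK = 1 := hK.sq_z
  have hw4 : w ^ 4 = 1 := by
    rw [show 4 = 2 + 2 from rfl, pow_add, pow_two, hww, hzz]
  have hP : IsPGroup 2 (Subgroup.zpowers w) := by
    intro x
    refine ⟨2, Subtype.ext ?_⟩
    obtain ⟨i, hi⟩ := Subgroup.mem_zpowers_iff.mp x.2
    show (x : G) ^ 4 = 1
    rw [← hi, ← zpow_natCast, zpow_comm, zpow_natCast, hw4, one_zpow]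
  obtain ⟨R, hR, hwR'⟩ := exists_isSyl hP
    (Subgroup.zpowers_le.mpr (mem_cen.mpr hwz : w ∈ cen zJ))
  have hwR : w ∈ R := hwR' (Subgroup.mem_zpowers w)
  have hzR : zK ∈ R := hww ▸ R.mul_mem hwR hwR
  have hzc : Commute zK zJ := mem_cen.mp (hR.le hzR)
  have hu := hJ.uniqInv hR
  obtain ⟨a, ha, ha4⟩ := hu.exists_four
  have haa := hu.sq_eq ha ha4
  have hwi : w * zK = w⁻¹ := by
    refine eq_inv_of_mul_eq_one_right ?_
    rw [← mul_assoc, hww, hzz]
  have hzi : zK⁻¹ = zK := hK.inv_z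
  set b := zK * a * zK with hb
  have hbJ : b ∈ cj zK J := by
    have h1 := conj_mem_cj (g := zK) ha.2
    rwa [hzi] at h1
  have hbR : b ∈ R := R.mul_mem (R.mul_mem hzR ha.1) hzR
  have hJ' := hJ.conj_of_commute hzc
  have hJ2 := hJ.conj_of_commute hwz
  have hJ3 := hJ.conj_of_commute (hwz.mul_left hzc)
  have hab : Commute a b := hJ.commute_of_two hJ' hmove.symm hR.two ha.2 hbJ ha.1 hbR
  set i := a * b with hi
  have hiR : i ∈ R := R.mul_mem ha.1 hbR
  have hbb : b * b = zJ := by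
    calc b * b = zK * a * (zK * zK) * a * zK := by rw [hb]; group
      _ = zK * (a * a) * zK := by rw [hzz]; group
      _ = zJ := by rw [haa, hzc.eq, mul_assoc, hzz, mul_one]
  have hii : i * i = 1 := by
    rw [hi, hab.symm.mul_mul_mul_comm, haa, hbb, hJ.sq_z]
  have hiN : i ∈ Subgroup.normalizer (K : Set G) :=
    hK.lay_le_normalizer (mem_lay_diag hJ hK.ord hzc hmove ha.2 (two_pow_of_mem hR.two ha.1) hab)
  set a2 := w * a * w⁻¹ with ha2
  set b2 := w * b * w⁻¹ with hb2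
  have ha2R : a2 ∈ R := R.mul_mem (R.mul_mem hwR ha.1) (R.inv_mem hwR)
  have hb2R : b2 ∈ R := R.mul_mem (R.mul_mem hwR hbR) (R.inv_mem hwR)
  have ha2J : a2 ∈ cj w J := conj_mem_cj ha.2
  have hb2J : b2 ∈ cj (w * zK) J := by
    rw [← cj_cj]
    exact conj_mem_cj hbJ
  have hzN : zK ∉ Subgroup.normalizer (J : Set G) := fun h => hmove (cj_eq_self.mpr h)
  have h12 : cj w J ≠ J := fun e => hzN (hww ▸ mul_mem (cj_eq_self.mp e) (cj_eq_self.mp e))
  have h13 : cj (w * zK) J ≠ J := by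
    intro e
    have h1 : w ∈ Subgroup.normalizer (J : Set G) := by
      have := inv_mem (cj_eq_self.mp e)
      rwa [hwi, inv_inv] at this
    exact hzN (hww ▸ mul_mem h1 h1)
  have h22 : cj zK J ≠ cj w J := by
    intro e
    rw [← hww, ← cj_cj] at e
    exact h12 (Subgroup.map_injective (MulAut.conj w).injective e)
  have h23 : cj zK J ≠ cj (w * zK) J := by
    intro e
    have h1 : cj w (cj zK J) = cj w (cj (w * zK) J) := by rw [e]
    rw [cj_cj, cj_cj, ← mul_assoc, hww, hzz, cj_one] at h1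
    exact h13 h1
  have c1 : Commute a a2 := hJ.commute_of_two hJ2 h12.symm hR.two ha.2 ha2J ha.1 ha2R
  have c2 : Commute a b2 := hJ.commute_of_two hJ3 h13.symm hR.two ha.2 hb2J ha.1 hb2R
  have c3 : Commute b a2 := hJ'.commute_of_two hJ2 h22 hR.two hbJ ha2J hbR ha2R
  have c4 : Commute b b2 := hJ'.commute_of_two hJ3 h23 hR.two hbJ hb2J hbR hb2R
  set i2 := w * i * w⁻¹ with hi2
  have hi2e : i2 = a2 * b2 := by rw [hi2, hi, ha2, hb2]; group
  have hci : Commute i i2 := by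
    rw [hi2e]
    exact (c1.mul_left c3).mul_right (c2.mul_left c4)
  have hi2sq : i2 * i2 = 1 := by
    calc i2 * i2 = w * (i * i) * w⁻¹ := by rw [hi2]; group
      _ = 1 := by rw [hii, mul_one, mul_inv_cancel]
  have hk : i * i2 ∈ K := by
    have h1 := (Subgroup.mem_normalizer_iff.mp hiN w).mp hw
    rw [inv_eq_of_mul_eq_one_right hii] at h1
    rw [hi2, show i * (w * i * w⁻¹) = i * w * i * w⁻¹ by group]
    exact K.mul_mem h1 (K.inv_mem hw)
  have hk2 : i * i2 * (i * i2) = 1 := by rw [hci.symm.mul_mul_mul_comm, hii, hi2sq, one_mul]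
  rcases hK.mem_or hk hk2 with e | e
  · obtain ⟨d, hd, -, hda⟩ := hu.exists_inverter ha ha4
    have d1 : Commute d b := hJ.commute_of_two hJ' hmove.symm hR.two hd.2 hbJ hd.1 hbR
    have d2 : Commute d a2 := hJ.commute_of_two hJ2 h12.symm hR.two hd.2 ha2J hd.1 ha2R
    have d3 : Commute d b2 := hJ.commute_of_two hJ3 h13.symm hR.two hd.2 hb2J hd.1 hb2R
    have hie : i = a2 * b2 := by
      rw [← hi2e]
      calc i = i * (i2 * i2) := by rw [hi2sq, mul_one]
        _ = i2 := by rw [← mul_assoc, e, one_mul]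
    have hdi : Commute d i := hie ▸ d2.mul_right d3
    have h1 : d * i * d⁻¹ = a⁻¹ * b := by
      calc d * i * d⁻¹ = d * a * d⁻¹ * (d * b * d⁻¹) := by rw [hi]; group
        _ = a⁻¹ * b := by rw [hda, d1.eq, mul_inv_cancel_right]
    rw [hdi.eq, mul_inv_cancel_right, hi, mul_left_inj, eq_inv_iff_mul_eq_one, haa] at h1
    exact hu.ne_one h1
  · have h1 : zK ∈ lay zJ := by
      rw [← e, hi2e, hi]
      exact mul_mem (mul_mem (hJ.le_lay ha.2) (hJ'.le_lay hbJ))
        (mul_mem (hJ2.le_lay ha2J) (hJ3.le_lay hb2J))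
    exact hzN (hJ.lay_le_normalizer h1)

/-- A fixed element in a coset modulo the core. -/
theorem exists_fixed_lift {z : G} {K : Subgroup G} (h : IComp z K) {f : G} (hff : f * f = 1)
    (hfN : f ∈ NK z K) (hf : act z K ⟨f, hfN⟩ = 1) (x : ↥K) :
    ∃ x' : ↥K, toL h x' = toL h x ∧ Commute (x' : G) f ∧
      ∀ g : G, Commute g f → Commute g x → Commute g x' := by
  have hfi : f⁻¹ = f := inv_eq_of_mul_eq_one_right hff
  have hfx : f * (x : G) * f ∈ K := by
    have h1 := (Subgroup.mem_normalizer_iff.mp hfN.2 x).mp x.2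
    rwa [hfi] at h1
  set q : ↥K := x⁻¹ * ⟨f * x * f, hfx⟩ with hq
  have hq1 : toL h q = 1 := by
    rw [hq, map_mul, map_inv, inv_mul_eq_one]
    have h1 := congrArg Subtype.val (DFunLike.congr_fun hf (toL h x))
    rw [act_apply, MulAut.one_apply] at h1
    refine Subtype.ext (h1.symm.trans ?_)
    show bar z ⟨f, hfN.1⟩ * bar z ⟨x, h.le x.2⟩ * (bar z ⟨f, hfN.1⟩)⁻¹ =
      bar z ⟨f * x * f, h.le hfx⟩
    rw [← map_inv, ← map_mul, ← map_mul]
    congr 1
    exact Subtype.ext (by show f * (x : G) * f⁻¹ = f * x * f; rw [hfi])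
  have hodd : Odd (orderOf ((x : G)⁻¹ * (f * x * f))) := by
    haveI : Fact (Nat.Prime 2) := ⟨Nat.prime_two⟩
    have h1 := Subgroup.orderOf_dvd_natCard _ (h.toL_eq_one.mp hq1)
    rw [← Subgroup.orderOf_coe] at h1
    rcases Nat.even_or_odd (orderOf (q : G)) with he | he
    · exact absurd (he.two_dvd.trans h1)
        (Nat.prime_two.coprime_iff_not_dvd.mp Thompson.card_pPrimeCore_coprime.symm)
    · exact he
  obtain ⟨m, hm⟩ := exists_fixed_of_odd hff hodd
  refine ⟨x * q ^ m, by rw [map_mul, map_pow, hq1, one_pow, mul_one], ?_, fun g hgf hgx => ?_⟩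
  · show Commute ((x : G) * ((x : G)⁻¹ * (f * x * f)) ^ m) f
    calc (x : G) * ((x : G)⁻¹ * (f * x * f)) ^ m * f
        = f * ((x : G) * ((x : G)⁻¹ * (f * x * f)) ^ m) * f * f := by rw [hm]
      _ = f * ((x : G) * ((x : G)⁻¹ * (f * x * f)) ^ m) := by
          rw [mul_assoc (f * _), hff, mul_one]
  · exact hgx.mul_right (((hgx.inv_right).mul_right ((hgf.mul_right hgx).mul_right hgf)).pow_right m)

/-- The `2`-elements of `K ∩ N` lie in the layer of `N` if `K ∩ N` covers `K` modulo the core. -/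
theorem mem_pLayerOf_of_cover {z : G} {K N : Subgroup G} (h : IComp z K) (hN : N ≤ cen z)
    (hcov : ∀ l : ↥(Lb z K), ∃ x : ↥K, (x : G) ∈ N ∧ toL h x = l)
    {x : G} (hxK : x ∈ K) (hxN : x ∈ N) (hx2 : ∃ k, x ^ 2 ^ k = 1) :
    x ∈ Cfsg.pLayerOf 2 N := by
  haveI : Fact (Nat.Prime 2) := ⟨Nat.prime_two⟩
  set ι : N →* cen z := Subgroup.inclusion hN with hι
  set D : Subgroup ↥N := (K.subgroupOf (cen z)).comap ι with hD
  have hDs : D.IsSubnormal := h.comp.2.1.comap ι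
  let ρ : ↥D →* ↥K := MonoidHom.mk' (fun d => ⟨((d : ↥N) : G), d.2⟩) (fun _ _ => rfl)
  have hρ : Function.Injective ρ := fun a b e =>
    Subtype.ext (Subtype.ext (congrArg (fun y : ↥K => (y : G)) e :))
  have hs : Function.Surjective ((toL h).comp ρ) := fun l => by
    obtain ⟨y, hy, e⟩ := hcov l
    exact ⟨⟨⟨y, hy⟩, y.2⟩, e⟩
  have hker : (Nat.card ((toL h).comp ρ).ker).Coprime 2 := by
    refine (Thompson.card_pPrimeCore_coprime (p := 2) (G := ↥K)).coprime_dvd_left ?_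
    rw [Nat.card_congr (((toL h).comp ρ).ker.equivMapOfInjective ρ hρ).toEquiv]
    refine Subgroup.card_dvd_of_le ?_
    rintro _ ⟨d, hd, rfl⟩
    exact h.toL_eq_one.mp hd
  obtain ⟨k, hk⟩ := hx2
  exact ⟨⟨x, hxN⟩, mem_pLayer_of_mem_layerCover (Subtype.ext (by simpa using hk))
    (le_layerCover_of_isSubnormal hDs h.isQuasisimple_Lb _ hs hker (show (⟨x, hxN⟩ : ↥N) ∈ D from hxK)),
    rfl⟩

/-- The case where no element of order four of `K` centralises `z(J)`. -/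
theorem false_of_no_four {zJ zK : G} {J K : Subgroup G} (hJ : IComp zJ J) (hK : IComp zK K)
    (hcard : innCard (↥K ⧸ Cfsg.pPrimeCore 2 ↥K) = innCard (↥J ⧸ Cfsg.pPrimeCore 2 ↥J))
    (hne : zJ ≠ zK) (hzc : Commute zK zJ) (hzN : zJ ∈ Subgroup.normalizer (K : Set G))
    (hmove : cj zK J ≠ J)
    (hno : ∀ x ∈ K, (∃ k, x ^ 2 ^ k = 1) → Commute x zJ → x = 1 ∨ x = zK) : False := by
  haveI : Fact (Nat.Prime 2) := ⟨Nat.prime_two⟩
  have hzz : zK * zK = 1 := hK.sq_z
  have hzi : zK⁻¹ = zK := hK.inv_z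
  have hP : IsPGroup 2 (Subgroup.zpowers zK) := IsPGroup.of_card (n := 1) (by
    rw [Nat.card_zpowers, hK.ord, pow_one])
  obtain ⟨RJ, hRJ, hzR'⟩ := exists_isSyl hP
    (Subgroup.zpowers_le.mpr (mem_cen.mpr hzc : zK ∈ cen zJ))
  have hzR : zK ∈ RJ := hzR' (Subgroup.mem_zpowers zK)
  have hu := hJ.uniqInv hRJ
  obtain ⟨a, ha, ha4⟩ := hu.exists_four
  obtain ⟨d, hd, hd4, hda⟩ := hu.exists_inverter ha ha4
  have haa := hu.sq_eq ha ha4
  have hdd := hu.sq_eq hd hd4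
  have haz : Commute a zJ := hJ.commute ha.2
  have hdz : Commute d zJ := hJ.commute hd.2
  have hJ' := hJ.conj_of_commute hzc
  set b := zK * a * zK with hb
  set e := zK * d * zK with he
  have hbJ : b ∈ cj zK J := by
    have h1 := conj_mem_cj (g := zK) ha.2
    rwa [hzi] at h1
  have heJ : e ∈ cj zK J := by
    have h1 := conj_mem_cj (g := zK) hd.2
    rwa [hzi] at h1
  have hbR : b ∈ RJ := RJ.mul_mem (RJ.mul_mem hzR ha.1) hzR
  have heR : e ∈ RJ := RJ.mul_mem (RJ.mul_mem hzR hd.1) hzR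
  have cab : Commute a b := hJ.commute_of_two hJ' hmove.symm hRJ.two ha.2 hbJ ha.1 hbR
  have cae : Commute a e := hJ.commute_of_two hJ' hmove.symm hRJ.two ha.2 heJ ha.1 heR
  have cdb : Commute d b := hJ.commute_of_two hJ' hmove.symm hRJ.two hd.2 hbJ hd.1 hbR
  have cde : Commute d e := hJ.commute_of_two hJ' hmove.symm hRJ.two hd.2 heJ hd.1 heR
  have hdi : d⁻¹ = d * zJ := (hu.mul_z hdd).symm
  have hai : a⁻¹ = a * zJ := (hu.mul_z haa).symm
  have hconjz : ∀ x : G, x * x = zJ → zK * x * zK * (zK * x * zK) = zJ := fun x hx => by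
    calc zK * x * zK * (zK * x * zK) = zK * x * (zK * zK) * x * zK := by group
      _ = zK * (x * x) * zK := by rw [hzz]; group
      _ = zJ := by rw [hx, hzc.eq, mul_assoc, hzz, mul_one]
  have hconjc : ∀ x : G, Commute x (zK * x * zK) → Commute (x * (zK * x * zK)) zK := fun x hx => by
    show x * (zK * x * zK) * zK = zK * (x * (zK * x * zK))
    calc x * (zK * x * zK) * zK = x * zK * x * (zK * zK) := by group
      _ = (zK * zK) * (x * zK * x) := by rw [hzz, mul_one, one_mul]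
      _ = zK * (zK * x * zK * x) := by group
      _ = zK * (x * (zK * x * zK)) := by rw [hx.eq]
  set i := a * b with hidef
  set i' := d * e with hi'def
  have hii : i * i = 1 := by rw [hidef, cab.symm.mul_mul_mul_comm, haa, hconjz a haa, hJ.sq_z]
  have hii' : i' * i' = 1 := by rw [hi'def, cde.symm.mul_mul_mul_comm, hdd, hconjz d hdd, hJ.sq_z]
  have hiR : i ∈ RJ := RJ.mul_mem ha.1 hbR
  have hiR' : i' ∈ RJ := RJ.mul_mem hd.1 heR
  have hiM : i ∈ Cfsg.pLayerOf 2 (cen zK ⊓ cen zJ) :=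
    mem_pLayerOf_diag hJ hK.ord hzc hmove ha.2 (two_pow_of_mem hRJ.two ha.1) cab
  have hiM' : i' ∈ Cfsg.pLayerOf 2 (cen zK ⊓ cen zJ) :=
    mem_pLayerOf_diag hJ hK.ord hzc hmove hd.2 (two_pow_of_mem hRJ.two hd.1) cde
  have hzJN : zJ ∈ NK zK K := ⟨mem_cen.mpr hzc.symm, hzN⟩
  obtain ⟨hiN, hia⟩ := act_eq_one_of_mem_pLayerOf hK hJ.ord hzJN hno hiM hii
  obtain ⟨hiN', hia'⟩ := act_eq_one_of_mem_pLayerOf hK hJ.ord hzJN hno hiM' hii'
  have cii : Commute i i' := by
    have h1 : d * a = a⁻¹ * d := mul_inv_eq_iff_eq_mul.mp hda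
    have h2 : e * b = b⁻¹ * e := by
      calc e * b = zK * (d * a) * zK := by
            rw [he, hb]; calc zK * d * zK * (zK * a * zK) = zK * d * (zK * zK) * a * zK := by group
              _ = _ := by rw [hzz]; group
        _ = zK * a⁻¹ * (zK * zK) * d * zK := by rw [h1, hzz]; group
        _ = b⁻¹ * e := by rw [hb, he, mul_inv_rev, mul_inv_rev, hzi]; group
    have h3 : b⁻¹ = b * zJ := by
      refine inv_eq_of_mul_eq_one_right ?_
      rw [← mul_assoc, show b * b = zJ from hconjz a haa, hJ.sq_z]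
    show i * i' = i' * i
    rw [hidef, hi'def, cdb.symm.mul_mul_mul_comm, cae.symm.mul_mul_mul_comm, h1, h2, h3, hai]
    have hez : Commute zJ b := (mem_cen.mp (hRJ.le hbR)).symm
    calc a * d * (b * e) = a * d * (zJ * zJ) * (b * e) := by rw [hJ.sq_z, mul_one]
      _ = a * (d * zJ) * (zJ * b) * e := by group
      _ = a * (zJ * d) * (b * zJ) * e := by rw [hdz.eq, hez.eq]
      _ = a * zJ * d * (b * zJ * e) := by group
  -- the Sylow subgroup of `C(z(K))`
  set P0 := RJ ⊓ cen zK with hP0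
  obtain ⟨R, hR, hPR⟩ := exists_isSyl (z := zK) (P := P0) (hRJ.two.to_le inf_le_left) inf_le_right
  have hzJR : zJ ∈ R := hPR ⟨hu.mem.1, mem_cen.mpr hzc.symm⟩
  have hiRK : i ∈ R := hPR ⟨hiR, hiN.1⟩
  have hiRK' : i' ∈ R := hPR ⟨hiR', hiN'.1⟩
  have huK := hK.uniqInv hR
  obtain ⟨w, hw, hw4, hwn⟩ := huK.exists_normalized (R := R ⊓ Subgroup.normalizer (K : Set G))
    (hR.two.to_le inf_le_left) (le_inf inf_le_left (inf_le_right.trans Subgroup.le_normalizer))
    (fun s hs t ht => ⟨R.mul_mem (R.mul_mem hs.1 ht.1) (R.inv_mem hs.1),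
      (Subgroup.mem_normalizer_iff.mp hs.2 t).mp ht.2⟩)
  have hww := huK.sq_eq hw hw4
  have hwi : Commute w i := (commute_of_mem_core hR.two hiRK hw.1 (hK.act_eq_one hia hw.2)).symm
  have hwi' : Commute w i' :=
    (commute_of_mem_core hR.two hiRK' hw.1 (hK.act_eq_one hia' hw.2)).symm
  have hwJ : w * zJ * w⁻¹ = zJ * zK := by
    rcases hwn zJ ⟨hzJR, hzN⟩ with h | h
    · exfalso
      rcases hno w hw.2 (two_pow_of_mem hR.two hw.1) (mul_inv_eq_iff_eq_mul.mp h).symm with h' | h'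
      · rw [h', orderOf_one] at hw4; omega
      · rw [h', hK.ord] at hw4; omega
    · calc w * zJ * w⁻¹ = zJ * zJ * w * zJ⁻¹ * w⁻¹ := by rw [hJ.sq_z, hJ.inv_z, one_mul]
        _ = zJ * (zJ * w * zJ⁻¹) * w⁻¹ := by group
        _ = zJ * (w * w)⁻¹ := by rw [h]; group
        _ = zJ * zK := by rw [hww, hzi]
  -- the element moving `(zK, i, zK * i')` to `(i', zK, zJ)`
  set g := a * w * d with hg
  have hg1 : g * zK * g⁻¹ = i' := by
    have h1 : d * zK * d⁻¹ = i' * zJ * zK := by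
      calc d * zK * d⁻¹ = d * (zK * d⁻¹) * (zK * zK) := by rw [hzz]; group
        _ = d * (zK * (d * zJ) * zK) * zK := by rw [hdi]; group
        _ = d * (zK * d * (zJ * zK)) * zK := by group
        _ = d * (zK * d * (zK * zJ)) * zK := by rw [hzc.eq]
        _ = i' * zJ * zK := by rw [hi'def, he]; group
    have h2 : w * (i' * zJ * zK) * w⁻¹ = i' * zJ := by
      calc w * (i' * zJ * zK) * w⁻¹ = w * i' * w⁻¹ * (w * zJ * w⁻¹) * (w * zK * w⁻¹) := by group
        _ = i' * (zJ * zK) * zK := by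
            rw [hwJ, hwi'.eq, mul_inv_cancel_right, (hK.commute hw.2).eq, mul_inv_cancel_right]
        _ = i' * zJ := by rw [mul_assoc i', mul_assoc zJ, hzz, mul_one]
    have h3 : a * (i' * zJ) * a⁻¹ = i' := by
      have h4 : a * d = d * a⁻¹ := by
        calc a * d = a * (d * a) * a⁻¹ := by group
          _ = a * (a⁻¹ * d) * a⁻¹ := by rw [← hda]; group
          _ = d * a⁻¹ := by group
      calc a * (i' * zJ) * a⁻¹ = a * d * e * zJ * a⁻¹ := by rw [hi'def]; group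
        _ = d * (a⁻¹ * e) * (zJ * a⁻¹) := by rw [h4]; group
        _ = d * (e * a⁻¹) * (a⁻¹ * zJ) := by rw [cae.inv_left.eq, haz.inv_left.symm.eq]
        _ = d * e * (a * a)⁻¹ * zJ := by group
        _ = i' := by rw [haa, inv_mul_cancel_right, hi'def]
    calc g * zK * g⁻¹ = a * (w * (d * zK * d⁻¹) * w⁻¹) * a⁻¹ := by rw [hg]; group
      _ = i' := by rw [h1, h2, h3]
  have hg2 : g * i * g⁻¹ = zK := by
    have h1 : d * i * d⁻¹ = i * zJ := by
      calc d * i * d⁻¹ = d * a * d⁻¹ * (d * b * d⁻¹) := by rw [hidef]; group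
        _ = a * zJ * b := by rw [hda, cdb.eq, mul_inv_cancel_right, hai]
        _ = i * zJ := by rw [hidef, mul_assoc, (mem_cen.mp (hRJ.le hbR)).symm.eq]; group
    have h2 : w * (i * zJ) * w⁻¹ = i * (zJ * zK) := by
      calc w * (i * zJ) * w⁻¹ = w * i * w⁻¹ * (w * zJ * w⁻¹) := by group
        _ = _ := by rw [hwJ, hwi.eq, mul_inv_cancel_right]
    have h3 : a * zK * a⁻¹ = i * zJ * zK := by
      calc a * zK * a⁻¹ = a * (zK * a⁻¹) * (zK * zK) := by rw [hzz]; group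
        _ = a * (zK * (a * zJ) * zK) * zK := by rw [hai]; group
        _ = a * (zK * a * (zJ * zK)) * zK := by group
        _ = a * (zK * a * (zK * zJ)) * zK := by rw [hzc.eq]
        _ = i * zJ * zK := by rw [hidef, hb]; group
    have h5 : Commute a i := (Commute.refl a).mul_right cab
    calc g * i * g⁻¹ = a * (w * (d * i * d⁻¹) * w⁻¹) * a⁻¹ := by rw [hg]; group
      _ = a * i * a⁻¹ * (a * zJ * a⁻¹) * (a * zK * a⁻¹) := by rw [h1, h2]; group
      _ = i * zJ * (i * zJ * zK) := by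
          rw [h3, h5.eq, mul_inv_cancel_right, haz.eq, mul_inv_cancel_right]
      _ = i * (zJ * i) * zJ * zK := by group
      _ = zK := by
          rw [(mem_cen.mp (hRJ.le hiR)).symm.eq, ← mul_assoc i i, hii, one_mul, hJ.sq_z, one_mul]
  set σ := zK * i' with hσ
  have hg3 : g * σ * g⁻¹ = zJ := by
    have h1 : g * i' * g⁻¹ = i' * zJ := by
      have h2 : d * i' * d⁻¹ = i' := by
        rw [hi'def, ((Commute.refl d).mul_right cde).eq, mul_inv_cancel_right]
      have h4 : a * d = d * a⁻¹ := by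
        calc a * d = a * (d * a) * a⁻¹ := by group
          _ = a * (a⁻¹ * d) * a⁻¹ := by rw [← hda]; group
          _ = d * a⁻¹ := by group
      calc g * i' * g⁻¹ = a * (w * (d * i' * d⁻¹) * w⁻¹) * a⁻¹ := by rw [hg]; group
        _ = a * d * e * a⁻¹ := by
            rw [h2, hwi'.eq, mul_inv_cancel_right, hi'def]; group
        _ = d * (a⁻¹ * e) * a⁻¹ := by rw [h4]; group
        _ = d * (e * a⁻¹) * a⁻¹ := by rw [cae.inv_left.eq]
        _ = d * e * (a * a)⁻¹ := by group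
        _ = i' * zJ := by rw [haa, hJ.inv_z, hi'def]
    calc g * σ * g⁻¹ = g * zK * g⁻¹ * (g * i' * g⁻¹) := by rw [hσ]; group
      _ = zJ := by rw [hg1, h1, ← mul_assoc, hii', one_mul]
  have hJ0 : IComp σ (cj g⁻¹ J) := by
    have h1 := hJ.map_conj g⁻¹
    rwa [show g⁻¹ * zJ * g⁻¹⁻¹ = σ by rw [← hg3]; group] at h1
  have hσσ : σ * σ = 1 := hJ0.sq_z
  have czi : Commute zK i := (mem_cen.mp hiN.1).symm
  have czi' : Commute zK i' := (mem_cen.mp hiN'.1).symm
  have cziσ : Commute zK σ := (Commute.refl zK).mul_right czi'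
  have ciσ : Commute i σ := czi.symm.mul_right cii
  set N := cen σ ⊓ cen i ⊓ cen zK with hN
  have hcov : ∀ l : ↥(Lb zK K), ∃ x : ↥K, (x : G) ∈ N ∧ toL hK x = l := by
    intro l
    obtain ⟨x, rfl⟩ := hK.toL_surjective l
    obtain ⟨x1, e1, c1, -⟩ := exists_fixed_lift hK hii hiN hia x
    obtain ⟨x2, e2, c2, hx2⟩ := exists_fixed_lift hK hii' hiN' hia' x1
    refine ⟨x2, ⟨⟨mem_cen.mpr ((hK.commute x2.2).mul_right c2), mem_cen.mpr (hx2 i cii c1.symm).symm⟩,
      hK.le x2.2⟩, e2.trans e1⟩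
  have hlay : ∀ x ∈ K, x ∈ N → (∃ k, x ^ 2 ^ k = 1) → x ∈ lay σ := fun x hxK hxN hx2 =>
    pLayerOf_inf_le (cen σ) (mem_cen.mpr ciσ) (orderOf_eq_prime (by rw [pow_two, hii]) (by
      intro e1
      rw [e1] at hg2
      exact hK.ne_one (by rw [← hg2]; group)))
      (pLayerOf_inf_le (cen σ ⊓ cen i) ⟨mem_cen.mpr cziσ, mem_cen.mpr czi⟩ hK.ord
        (mem_pLayerOf_of_cover hK inf_le_right hcov hxK hxN hx2))
  have hwN : w ∈ N :=
    ⟨⟨mem_cen.mpr ((hK.commute hw.2).mul_right hwi'), mem_cen.mpr hwi⟩, hK.le hw.2⟩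
  have hzN' : zK ∈ N := ⟨⟨mem_cen.mpr cziσ, mem_cen.mpr czi⟩, hK.le hK.mem⟩
  set V := K ⊓ N ⊓ lay σ with hV
  have hVK : V ≤ K := inf_le_left.trans inf_le_left
  have hVcov : ∀ l : ↥(Lb zK K), ∃ v, ∃ hv : v ∈ V, toL hK ⟨v, hVK hv⟩ = l := by
    let χ : ↥(K ⊓ N) →* ↥(Lb zK K) := (toL hK).comp (Subgroup.inclusion inf_le_left)
    have hχ : Function.Surjective χ := fun l => by
      obtain ⟨x, hx, e1⟩ := hcov l
      exact ⟨⟨x, x.2, hx⟩, e1⟩
    haveI hnorm : (V.subgroupOf (K ⊓ N)).Normal := ⟨fun v hv n => by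
      rw [Subgroup.mem_subgroupOf] at hv ⊢
      refine ⟨(n * v * n⁻¹).2, ?_⟩
      obtain ⟨p, hp, hpv⟩ := hv.2
      refine ⟨⟨n, n.2.2.1.1⟩ * p * ⟨n, n.2.2.1.1⟩⁻¹,
        (pLayer_normal (p := 2) (G := ↥(cen σ))).conj_mem p hp _, ?_⟩
      show (n : G) * (cen σ).subtype p * (n : G)⁻¹ = _
      rw [hpv]; rfl⟩
    haveI : ((V.subgroupOf (K ⊓ N)).map χ).Normal := Subgroup.Normal.map hnorm χ hχ
    rcases normal_eq_top_or_le_center hK.isQuasisimple_Lb ((V.subgroupOf (K ⊓ N)).map χ) with h | h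
    · intro l
      obtain ⟨v, hv, e1⟩ := h.ge (Subgroup.mem_top l)
      exact ⟨v, hv, e1⟩
    · exfalso
      have h1 := h (Subgroup.mem_map_of_mem χ (show (⟨w, hw.2, hwN⟩ : ↥(K ⊓ N)) ∈
        V.subgroupOf (K ⊓ N) from ⟨⟨hw.2, hwN⟩, hlay w hw.2 hwN (two_pow_of_mem hR.two hw.1)⟩))
      obtain ⟨r, hr, -, hrw⟩ := huK.exists_inverter hw hw4
      have hc := Subgroup.mem_center_iff.mp h1 (toL hK ⟨r, hr.2⟩)
      change toL hK ⟨r, hr.2⟩ * toL hK ⟨w, hw.2⟩ = toL hK ⟨w, hw.2⟩ * toL hK ⟨r, hr.2⟩ at hc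
      have h2 : toL hK ⟨r, hr.2⟩ * toL hK ⟨w, hw.2⟩ * (toL hK ⟨r, hr.2⟩)⁻¹ =
          (toL hK ⟨w, hw.2⟩)⁻¹ := by
        rw [← map_inv, ← map_inv, ← map_mul, ← map_mul]
        exact congrArg _ (Subtype.ext hrw)
      rw [hc, mul_inv_cancel_right, eq_inv_iff_mul_eq_one, ← map_mul,
        show (⟨w, hw.2⟩ : ↥K) * ⟨w, hw.2⟩ = ⟨zK, hK.mem⟩ from Subtype.ext hww] at h2
      exact hK.toL_z_ne_one h2
  have hzV : zK ∈ V := ⟨⟨hK.mem, hzN'⟩, hlay zK hK.mem hzN' ⟨1, by rw [pow_one, pow_two, hzz]⟩⟩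
  refine false_of_cover hK hJ0 ?_ hVK inf_le_right hzV (fun v hv => hK.commute (hVK hv)) hVcov ?_
  · show innCard _ = innCard _
    rw [hK.innCard_Lb, hJ0.innCard_Lb, innCard_cj, hcard]
  · intro h1
    have h2 := hJ0.act_eq_one h1 (conj_mem_cj (g := g⁻¹) ha.2)
    have h3 : i' * a * i'⁻¹ * a⁻¹ = zJ := by
      calc i' * a * i'⁻¹ * a⁻¹ = d * (e * a) * e⁻¹ * d⁻¹ * a⁻¹ := by rw [hi'def]; group
        _ = d * (a * e) * e⁻¹ * d⁻¹ * a⁻¹ := by rw [cae.eq]
        _ = (d * a * d⁻¹) * a⁻¹ := by group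
        _ = (a * a)⁻¹ := by rw [hda]; group
        _ = zJ := by rw [haa, hJ.inv_z]
    have h4 : zK * (g⁻¹ * a * g⁻¹⁻¹) * zK⁻¹ * (g⁻¹ * a * g⁻¹⁻¹)⁻¹ = σ := by
      calc zK * (g⁻¹ * a * g⁻¹⁻¹) * zK⁻¹ * (g⁻¹ * a * g⁻¹⁻¹)⁻¹
          = g⁻¹ * ((g * zK * g⁻¹) * a * (g * zK * g⁻¹)⁻¹ * a⁻¹) * g := by group
        _ = g⁻¹ * (g * σ * g⁻¹) * g := by rw [hg1, h3, hg3]
        _ = σ := by group
    rw [h4] at h2
    have h5 := odd_core h2
    rw [hJ0.ord] at h5
    exact absurd h5 (by decide)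

/-- If `z(J)` normalises `K` then `z(K)` normalises `J`. -/
theorem mem_normalizer_swap {zJ zK : G} {J K : Subgroup G} (hJ : IComp zJ J) (hK : IComp zK K)
    (hcard : innCard (↥K ⧸ Cfsg.pPrimeCore 2 ↥K) = innCard (↥J ⧸ Cfsg.pPrimeCore 2 ↥J))
    (hne : zJ ≠ zK) (hzN : zJ ∈ Subgroup.normalizer (K : Set G)) :
    zK ∈ Subgroup.normalizer (J : Set G) := by
  haveI : Fact (Nat.Prime 2) := ⟨Nat.prime_two⟩
  have hzc : Commute zK zJ := by
    have h1 : zJ * zK * zJ⁻¹ = zK :=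
      hK.uniq _ ((Subgroup.mem_normalizer_iff.mp hzN zK).mp hK.mem) (by
        rw [show zJ * zK * zJ⁻¹ = MulAut.conj zJ zK from rfl, MulEquiv.orderOf_eq, hK.ord])
    exact (mul_inv_eq_iff_eq_mul.mp h1).symm
  by_contra hz
  have hmove : cj zK J ≠ J := fun e => hz (cj_eq_self.mp e)
  by_cases hw : ∃ w ∈ K, w * w = zK ∧ Commute w zJ
  · obtain ⟨w, h1, h2, h3⟩ := hw
    exact false_of_four hJ hK hmove h1 h2 h3
  · refine false_of_no_four hJ hK hcard hne hzc hzN hmove fun x hx hk hc => ?_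
    by_contra hnot
    push Not at hnot
    obtain ⟨k, hk⟩ := hk
    induction k generalizing x with
    | zero => exact hnot.1 (by simpa using hk)
    | succ k ih =>
      by_cases h2 : x * x = 1
      · rcases hK.mem_or hx h2 with h | h
        · exact hnot.1 h
        · exact hnot.2 h
      · refine ih (x * x) (K.mul_mem hx hx) (hc.mul_left hc)
          ⟨h2, fun h => hw ⟨x, hx, h, hc⟩⟩ ?_
        rw [← pow_two, ← pow_mul, ← pow_succ']
        exact hk

end Cfsg.Agent.Intrinsic63
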